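import Mathlib.Topology.Constructible
import Mathlib.Topology.NoetherianSpace
import Mathlib.Topology.Sober
import Mathlib.Topology.Spectral.Prespectral
import Mathlib.Topology.Irreducible
import Mathlib.Topology.GDelta.Basic

/-!
Constructible sets: locally closed decompositions, criteria in Noetherian spaces.
-/

open Set Topology TopologicalSpace

namespace Groth.Agent.PtSet

variable {X : Type*} [TopologicalSpace X]

/-- A constructible set is a finite union of locally closed sets. -/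
lemma exists_finite_isLocallyClosed_of_isConstructible {s : Set X} (hs : IsConstructible s) :
    ∃ S : Set (Set X), S.Finite ∧ (∀ t ∈ S, IsLocallyClosed t) ∧ s = ⋃₀ S := by
  induction s, hs using BooleanSubalgebra.closure_sdiff_sup_induction with
  | isSublattice =>
    exact ⟨fun s hs t ht ↦ ⟨hs.1.union ht.1, hs.2.union ht.2⟩,
      fun s hs t ht ↦ ⟨hs.1.inter ht.1, hs.2.inter_isOpen ht.2 ht.1⟩⟩
  | bot_mem => exact ⟨isOpen_empty, .empty⟩
  | top_mem => exact ⟨isOpen_univ, .univ⟩
  | sdiff U hU V hV =>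
    refine ⟨{U \ V}, finite_singleton _, ?_, by simp⟩
    rintro t rfl
    exact ⟨U, Vᶜ, hU.1, hV.1.isClosed_compl, rfl⟩
  | sup s _ t _ hs ht =>
    obtain ⟨S, hS, hS', rfl⟩ := hs
    obtain ⟨T, hT, hT', rfl⟩ := ht
    exact ⟨S ∪ T, hS.union hT, fun a ha ↦ ha.elim (hS' a) (hT' a), by simp [sUnion_union]⟩

lemma isRetrocompact_of_noetherian [NoetherianSpace X] (s : Set X) : IsRetrocompact s :=
  fun _ _ _ ↦ NoetherianSpace.isCompact _

lemma isConstructible_of_isOpen_noetherian [NoetherianSpace X] {s : Set X} (hs : IsOpen s) :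
    IsConstructible s :=
  (isRetrocompact_of_noetherian s).isConstructible hs

lemma isConstructible_of_isClosed_noetherian [NoetherianSpace X] {s : Set X} (hs : IsClosed s) :
    IsConstructible s :=
  .of_compl (isConstructible_of_isOpen_noetherian hs.isOpen_compl)

lemma isConstructible_of_isLocallyClosed_noetherian [NoetherianSpace X] {s : Set X}
    (hs : IsLocallyClosed s) : IsConstructible s := by
  obtain ⟨U, Z, hU, hZ, rfl⟩ := hs
  exact (isConstructible_of_isOpen_noetherian hU).inter (isConstructible_of_isClosed_noetherian hZ)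

/-- If a finite union of sets is dense in an irreducible set, one of them is. -/
lemma exists_mem_subset_closure_inter {Y : Set X} (hY : IsIrreducible Y) {ι : Type*}
    {S : Set ι} (hS : S.Finite) (L : ι → Set X)
    (hd : Y ⊆ closure ((⋃ i ∈ S, L i) ∩ Y)) : ∃ i ∈ S, Y ⊆ closure (L i ∩ Y) := by
  classical
  rw [iUnion₂_inter, hS.closure_biUnion] at hd
  obtain ⟨z, hz, hYz⟩ := isIrreducible_iff_sUnion_isClosed.1 hY
    (hS.toFinset.image fun i ↦ closure (L i ∩ Y))
    (by simp only [Finset.mem_image, forall_exists_index, and_imp]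
        rintro _ i _ rfl; exact isClosed_closure)
    (by simpa using hd)
  obtain ⟨i, hi, rfl⟩ := Finset.mem_image.1 hz
  exact ⟨i, hS.mem_toFinset.1 hi, hYz⟩

/-- A nonempty relatively open subset of a preirreducible set is dense in it. -/
lemma subset_closure_of_inter_subset {Y U E : Set X} (hY : IsPreirreducible Y) (hU : IsOpen U)
    (hne : (U ∩ Y).Nonempty) (hsub : U ∩ Y ⊆ E) : Y ⊆ closure (E ∩ Y) := by
  refine (subset_closure_inter_of_isPreirreducible_of_isOpen hY hU (by rwa [inter_comm])).trans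
    (closure_mono ?_)
  rintro a ⟨ha, ha'⟩
  exact ⟨hsub ⟨ha', ha⟩, ha⟩

/-- A constructible set dense in an irreducible set contains a dense relatively open subset of it -/
lemma exists_isOpen_of_isConstructible {E : Set X} (hE : IsConstructible E) {Y : Set X}
    (hY : IsIrreducible Y) (hd : Y ⊆ closure (E ∩ Y)) :
    ∃ U, IsOpen U ∧ (U ∩ Y).Nonempty ∧ U ∩ Y ⊆ E := by
  obtain ⟨S, hS, hS', rfl⟩ := exists_finite_isLocallyClosed_of_isConstructible hE
  rw [sUnion_eq_biUnion] at hd
  obtain ⟨L, hL, hLY⟩ := exists_mem_subset_closure_inter hY hS (fun t ↦ t) hd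
  obtain ⟨U, F, hU, hF, rfl⟩ := hS' L hL
  have hYF : Y ⊆ F := hLY.trans (closure_minimal (fun a ha ↦ ha.1.2) hF)
  refine ⟨U, hU, ?_, fun a ha ↦ ⟨_, hL, ha.1, hYF ha.2⟩⟩
  obtain ⟨a, ha⟩ := closure_nonempty_iff.1 (hY.nonempty.mono hLY)
  exact ⟨a, ha.1.1, ha.2⟩

/-- Noetherian induction on closed subsets, stated for sets. -/
lemma closed_induction [NoetherianSpace X] {p : Set X → Prop}
    (h : ∀ Y, IsClosed Y → (∀ Z, IsClosed Z → Z ⊆ Y → Z ≠ Y → p Z) → p Y) :
    ∀ Y, IsClosed Y → p Y := by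
  intro Y hY
  lift Y to Closeds X using hY
  apply wellFounded_lt.induction Y
  intro C hC
  refine h C C.2 fun Z hZ hZC hne ↦ ?_
  exact hC ⟨Z, hZ⟩ (lt_of_le_of_ne hZC fun e ↦ hne (by rw [← e]; rfl))

/-- Noetherian induction, reduced to irreducible closed subsets. -/
lemma irreducible_induction [NoetherianSpace X] {p : Set X → Prop} (hempty : p ∅)
    (hunion : ∀ Y Z, IsClosed Y → IsClosed Z → p Y → p Z → p (Y ∪ Z))
    (hirr : ∀ Y, IsClosed Y → IsIrreducible Y →
      (∀ Z, IsClosed Z → Z ⊆ Y → Z ≠ Y → p Z) → p Y) :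
    ∀ Y, IsClosed Y → p Y := by
  refine closed_induction fun Y hY ih ↦ ?_
  rcases Y.eq_empty_or_nonempty with rfl | hne
  · exact hempty
  by_cases hpre : IsPreirreducible Y
  · exact hirr Y hY ⟨hne, hpre⟩ ih
  rw [isPreirreducible_iff_isClosed_union_isClosed] at hpre
  push Not at hpre
  obtain ⟨z₁, z₂, hz₁, hz₂, hsub, h₁, h₂⟩ := hpre
  have := hunion _ _ (hY.inter hz₁) (hY.inter hz₂)
    (ih _ (hY.inter hz₁) inter_subset_left (by simpa using h₁))
    (ih _ (hY.inter hz₂) inter_subset_left (by simpa using h₂))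
  rwa [← inter_union_distrib_left, inter_eq_left.2 hsub] at this

/-- The constructibility criterion in Noetherian spaces. -/
lemma isConstructible_of_forall_irreducible [NoetherianSpace X] (E : Set X)
    (h : ∀ Y, IsClosed Y → IsIrreducible Y → Y ⊆ closure (E ∩ Y) →
      ∃ U, IsOpen U ∧ (U ∩ Y).Nonempty ∧ U ∩ Y ⊆ E) : IsConstructible E := by
  suffices ∀ Y : Set X, IsClosed Y → IsConstructible (E ∩ Y) by simpa using this univ isClosed_univ
  refine irreducible_induction (by simp) (fun Y Z _ _ h₁ h₂ ↦ ?_) fun Y hY hi ih ↦ ?_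
  · rw [inter_union_distrib_left]; exact h₁.union h₂
  by_cases hd : Y ⊆ closure (E ∩ Y)
  · obtain ⟨U, hU, hne, hsub⟩ := h Y hY hi hd
    have hne' : Y \ U ≠ Y := by
      obtain ⟨a, ha⟩ := hne
      intro e; exact (e.symm ▸ ha.2 : a ∈ Y \ U).2 ha.1
    have key : E ∩ Y = (U ∩ Y) ∪ E ∩ (Y \ U) := by
      ext a
      by_cases haU : a ∈ U
      · simp only [mem_inter_iff, mem_union, mem_sdiff, haU, not_true, and_false, or_false, true_and]
        exact ⟨fun h ↦ h.2, fun h ↦ ⟨hsub ⟨haU, h⟩, h⟩⟩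
      · simp [haU]
    rw [key]
    exact ((isConstructible_of_isOpen_noetherian hU).inter
      (isConstructible_of_isClosed_noetherian hY)).union
        (ih _ (hY.sdiff hU) sdiff_subset hne')
  · have hcl : closure (E ∩ Y) ⊆ Y := closure_minimal inter_subset_right hY
    have key : E ∩ Y = E ∩ closure (E ∩ Y) := subset_antisymm
      (fun a ha ↦ ⟨ha.1, subset_closure ha⟩) (inter_subset_inter_right _ hcl)
    rw [key]
    exact ih _ isClosed_closure hcl fun e ↦ hd e.ge

/-- A set is a neighbourhood of `x` if it contains a relatively open nonempty subset of every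
irreducible closed set through `x` (Noetherian spaces). -/
lemma mem_nhds_of_forall_irreducible [NoetherianSpace X] {E : Set X} {x : X}
    (h : ∀ Y, IsClosed Y → IsIrreducible Y → x ∈ Y →
      ∃ U, IsOpen U ∧ (U ∩ Y).Nonempty ∧ U ∩ Y ⊆ E) : E ∈ nhds x := by
  suffices ∀ Y : Set X, IsClosed Y → ∃ U, IsOpen U ∧ x ∈ U ∧ U ∩ Y ⊆ E by
    obtain ⟨U, hU, hx, hsub⟩ := this univ isClosed_univ
    exact Filter.mem_of_superset (hU.mem_nhds hx) (by simpa using hsub)
  refine irreducible_induction ⟨univ, isOpen_univ, trivial, by simp⟩ ?_ ?_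
  · rintro Y Z _ _ ⟨U, hU, hxU, hUY⟩ ⟨V, hV, hxV, hVZ⟩
    refine ⟨U ∩ V, hU.inter hV, ⟨hxU, hxV⟩, ?_⟩
    rintro a ⟨⟨h₁, h₂⟩, h₃ | h₃⟩
    exacts [hUY ⟨h₁, h₃⟩, hVZ ⟨h₂, h₃⟩]
  intro Y hY hi ih
  by_cases hxY : x ∈ Y
  · obtain ⟨U, hU, ⟨a, ha⟩, hsub⟩ := h Y hY hi hxY
    obtain ⟨V, hV, hxV, hVsub⟩ := ih _ (hY.sdiff hU) sdiff_subset
      (fun e ↦ (e.symm ▸ ha.2 : a ∈ Y \ U).2 ha.1)
    refine ⟨V, hV, hxV, fun b hb ↦ ?_⟩
    by_cases hbU : b ∈ U
    · exact hsub ⟨hbU, hb.2⟩
    · exact hVsub ⟨hb.1, hb.2, hbU⟩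
  · exact ⟨Yᶜ, hY.isOpen_compl, hxY, by simp⟩

/-- In a sober Noetherian space a constructible set stable under generalization is open. -/
lemma isOpen_of_isConstructible_stableUnderGeneralization [NoetherianSpace X] [QuasiSober X]
    {E : Set X} (hE : IsConstructible E) (hg : StableUnderGeneralization E) : IsOpen E := by
  refine isOpen_iff_mem_nhds.2 fun x hx ↦ mem_nhds_of_forall_irreducible fun Y hY hi hxY ↦ ?_
  obtain ⟨η, hη⟩ := QuasiSober.sober hi hY
  refine exists_isOpen_of_isConstructible hE hi ?_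
  have hηx : η ⤳ x := hη.specializes hxY
  refine hη.def.ge.trans (closure_mono (singleton_subset_iff.2 ⟨hg hηx hx, hη.mem⟩))

end Groth.Agent.PtSet

namespace Groth.Agent.PtSet

variable {X : Type*} [TopologicalSpace X]

/-- Constructible sets are retrocompact. -/
lemma isRetrocompact_constructible {s : Set X} (hs : IsConstructible s) : IsRetrocompact s := by
  induction s, hs using BooleanSubalgebra.closure_sdiff_sup_induction with
  | isSublattice =>
    exact ⟨fun s hs t ht ↦ ⟨hs.1.union ht.1, hs.2.union ht.2⟩,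
      fun s hs t ht ↦ ⟨hs.1.inter ht.1, hs.2.inter_isOpen ht.2 ht.1⟩⟩
  | bot_mem => exact ⟨isOpen_empty, .empty⟩
  | top_mem => exact ⟨isOpen_univ, .univ⟩
  | sdiff A hA A' hA' =>
    intro L hL hLo
    rw [show A \ A' ∩ L = (A ∩ L) ∩ A'ᶜ by tauto_set]
    exact (hA.2 hL hLo).inter_right hA'.1.isClosed_compl
  | sup s _ t _ hs ht => exact hs.union ht

end Groth.Agent.PtSet
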