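import Mathlib.Topology.NoetherianSpace
import Mathlib.Topology.Irreducible
import Mathlib.Topology.Connected.LocallyConnected
import Mathlib.Topology.Connected.Clopen
import Mathlib.Topology.LocallyFinite
import Mathlib.Topology.Spectral.Prespectral
import Mathlib.Topology.QuasiSeparated

/-!
Components: locally Noetherian spaces, quasi-compact quasi-separated prespectral spaces.
-/

open Set Topology TopologicalSpace

namespace Groth.Agent.PtSet

variable {X : Type*} [TopologicalSpace X]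

lemma exists_isOpen_noetherianSpace (hX : ∀ x : X, ∃ U ∈ nhds x, NoetherianSpace U) (x : X) :
    ∃ U, IsOpen U ∧ x ∈ U ∧ NoetherianSpace U := by
  obtain ⟨U, hU, hN⟩ := hX x
  exact ⟨interior U, isOpen_interior, mem_interior_iff_mem_nhds.2 hU,
    NoetherianSpace.of_subset interior_subset⟩

/-- Near each point of a locally Noetherian space only finitely many components occur. -/
lemma finite_components_meeting {V : Set X} (hV : IsOpen V) [NoetherianSpace V] :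
    {Z ∈ irreducibleComponents X | (Z ∩ V).Nonempty}.Finite := by
  refine ((NoetherianSpace.finite_irreducibleComponents (α := V)).image
    fun W ↦ closure (Subtype.val '' W)).subset ?_
  rintro Z ⟨hZ, hne⟩
  have hZc := isClosed_of_mem_irreducibleComponents Z hZ
  have hpre : IsPreirreducible (Subtype.val ⁻¹' Z : Set V) :=
    hZ.1.isPreirreducible.preimage hV.isOpenEmbedding_subtypeVal
  obtain ⟨a, ha, haV⟩ := hne
  obtain ⟨W, hWmax, hsub⟩ := exists_mem_irreducibleComponents_subset_of_isIrreducible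
    (Subtype.val ⁻¹' Z : Set V) ⟨⟨⟨a, haV⟩, ha⟩, hpre⟩
  refine ⟨W, hWmax, ?_⟩
  have h1 : Z ⊆ closure (Subtype.val '' W) :=
    (subset_closure_inter_of_isPreirreducible_of_isOpen hZ.1.isPreirreducible hV
      ⟨a, ha, haV⟩).trans (closure_mono fun b hb ↦ ⟨⟨b, hb.2⟩, hsub hb.1, rfl⟩)
  exact subset_antisymm (hZ.2 ((hWmax.1.image _ continuous_subtype_val.continuousOn).closure) h1) h1

lemma locallyFinite_components (hX : ∀ x : X, ∃ U ∈ nhds x, NoetherianSpace U) :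
    LocallyFinite (fun Z : irreducibleComponents X ↦ (Z : Set X)) := by
  intro x
  obtain ⟨V, hV, hxV, hN⟩ := exists_isOpen_noetherianSpace hX x
  refine ⟨V, hV.mem_nhds hxV, ?_⟩
  refine ((finite_components_meeting hV).preimage Subtype.val_injective.injOn).subset ?_
  exact fun Z hZ ↦ ⟨Z.2, hZ⟩

lemma isClosed_sUnion_components (hX : ∀ x : X, ∃ U ∈ nhds x, NoetherianSpace U)
    {S : Set (Set X)} (hS : S ⊆ irreducibleComponents X) : IsClosed (⋃₀ S) := by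
  have := ((locallyFinite_components hX).comp_injective
    (g := fun Z : S ↦ (⟨Z.1, hS Z.2⟩ : irreducibleComponents X))
    (fun a b h ↦ Subtype.ext (congrArg (fun Z : irreducibleComponents X ↦ Z.1) h))).isClosed_iUnion
      (fun Z ↦ isClosed_of_mem_irreducibleComponents _ (hS Z.2))
  rwa [sUnion_eq_iUnion]

/-- Locally Noetherian spaces are locally connected. -/
lemma locallyConnectedSpace_of_noetherian_nhds
    (hX : ∀ x : X, ∃ U ∈ nhds x, NoetherianSpace U) : LocallyConnectedSpace X := by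
  rw [locallyConnectedSpace_iff_connected_subsets]
  intro x U hU
  obtain ⟨V, hV, hxV, hN⟩ := exists_isOpen_noetherianSpace hX x
  let V₀ := interior U ∩ V
  have hV₀ : IsOpen V₀ := isOpen_interior.inter hV
  haveI : NoetherianSpace V₀ := NoetherianSpace.of_subset inter_subset_right
  have hxV₀ : x ∈ V₀ := ⟨mem_interior_iff_mem_nhds.2 hU, hxV⟩
  let a : V₀ := ⟨x, hxV₀⟩
  let C : Set V₀ := ⋃₀ {Z ∈ irreducibleComponents V₀ | a ∉ Z}
  have hC : IsClosed C := by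
    rw [show C = ⋃ Z ∈ {Z ∈ irreducibleComponents V₀ | a ∉ Z}, Z from sUnion_eq_biUnion]
    exact ((NoetherianSpace.finite_irreducibleComponents (α := V₀)).subset (sep_subset _ _)
      ).isClosed_biUnion fun Z hZ ↦ isClosed_of_mem_irreducibleComponents Z hZ.1
  have haC : a ∈ Cᶜ := by rintro ⟨Z, hZ, haZ⟩; exact hZ.2 haZ
  have hpre : IsPreconnected Cᶜ := by
    have e : Cᶜ = ⋃₀ ((· ∩ Cᶜ) '' {Z ∈ irreducibleComponents V₀ | a ∈ Z}) := by
      refine subset_antisymm (fun b hb ↦ ?_)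
        (sUnion_subset (by rintro _ ⟨Z, -, rfl⟩; exact inter_subset_right))
      refine ⟨_, ⟨irreducibleComponent b, ⟨irreducibleComponent_mem_irreducibleComponents b,
        by_contra fun h ↦ hb ⟨_, ⟨irreducibleComponent_mem_irreducibleComponents b, h⟩,
          mem_irreducibleComponent⟩⟩, rfl⟩, mem_irreducibleComponent, hb⟩
    rw [e]
    refine isPreconnected_sUnion a _ ?_ ?_
    · rintro _ ⟨Z, hZ, rfl⟩; exact ⟨hZ.2, haC⟩
    · rintro _ ⟨Z, hZ, rfl⟩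
      refine IsPreirreducible.isPreconnected ?_
      intro u v hu hv hu' hv'
      obtain ⟨b, hb, hbu⟩ := hu'
      obtain ⟨c, hc, hcv⟩ := hv'
      obtain ⟨d, hdZ, ⟨hdu, hdC⟩, hdv⟩ := hZ.1.1.2 (u ∩ Cᶜ) v (hu.inter hC.isOpen_compl) hv
        ⟨b, hb.1, hbu, hb.2⟩ ⟨c, hc.1, hcv⟩
      exact ⟨d, ⟨hdZ, hdC⟩, hdu, hdv⟩
  refine ⟨Subtype.val '' Cᶜ, (hV₀.isOpenMap_subtype_val _ hC.isOpen_compl).mem_nhds ⟨a, haC, rfl⟩,
    hpre.image _ continuous_subtype_val.continuousOn, ?_⟩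
  rintro _ ⟨b, -, rfl⟩
  exact interior_subset b.2.1

/-- In a qc qs prespectral space connected components are intersections of clopen sets. -/
theorem connectedComponent_eq_sInter_isClopen_qcqs [CompactSpace X] [PrespectralSpace X]
    [QuasiSeparatedSpace X] (x : X) :
    connectedComponent x = ⋂₀ {Z : Set X | IsClopen Z ∧ x ∈ Z} := by
  refine subset_antisymm (subset_sInter fun Z hZ ↦ hZ.1.connectedComponent_subset hZ.2) ?_
  have hxS : x ∈ ⋂₀ {Z : Set X | IsClopen Z ∧ x ∈ Z} := fun Z hZ ↦ hZ.2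
  set S := ⋂₀ {Z : Set X | IsClopen Z ∧ x ∈ Z} with hSdef
  have hSc : IsClosed S := isClosed_sInter fun Z hZ ↦ hZ.1.1
  refine IsPreconnected.subset_connectedComponent ?_ hxS
  rw [isPreconnected_iff_subset_of_disjoint_closed]
  intro B C hB hC hsub hdisj
  -- compact opens separating the two closed pieces
  obtain ⟨U, hUc, hUo, hBU, hUC⟩ := PrespectralSpace.exists_isCompact_and_isOpen_between
    (K := S ∩ B) (U := (S ∩ C)ᶜ) ((hSc.inter hB).isCompact) (hSc.inter hC).isOpen_compl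
    (fun a ha hac ↦ hdisj.le ⟨ha.1, ha.2, hac.2⟩)
  obtain ⟨V, hVc, hVo, hCV, hVS⟩ := PrespectralSpace.exists_isCompact_and_isOpen_between
    (K := S ∩ C) (U := (S \ (U ∩ S)ᶜ)ᶜ) ((hSc.inter hC).isCompact)
    (by
      have : S \ (U ∩ S)ᶜ = S ∩ B := by
        ext a
        refine ⟨fun ⟨ha, h⟩ ↦ ⟨ha, (hsub ha).resolve_right fun hc ↦ hUC (not_not.1 h).1 ⟨ha, hc⟩⟩,
          fun ha ↦ ⟨ha.1, fun h ↦ h ⟨hBU ha, ha.1⟩⟩⟩
      rw [this]; exact (hSc.inter hB).isOpen_compl)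
    (fun a ha h ↦ hUC (not_not.1 h.2).1 ha)
  have hUVS : Disjoint (U ∩ V) S := disjoint_left.2 fun a ⟨hU, hV⟩ hS ↦
    hVS hV ⟨hS, fun h ↦ h ⟨hU, hS⟩⟩
  -- one clopen avoiding both `U ∩ V` and the complement of `U ∪ V`
  have hK : IsCompact (U ∩ V ∪ (U ∪ V)ᶜ) :=
    (QuasiSeparatedSpace.inter_isCompact U V hUo hUc hVo hVc).union
      (hUo.union hVo).isClosed_compl.isCompact
  have hKS : (U ∩ V ∪ (U ∪ V)ᶜ) ∩ ⋂ Z : {Z : Set X // IsClopen Z ∧ x ∈ Z}, Z.1 = ∅ := by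
    refine eq_empty_of_forall_notMem fun a ⟨ha, hZ⟩ ↦ ?_
    have haS : a ∈ S := fun Z hZ' ↦ mem_iInter.1 hZ ⟨Z, hZ'⟩
    rcases ha with ha | ha
    · exact disjoint_left.1 hUVS ha haS
    · exact ha ((hsub haS).imp (fun h ↦ hBU ⟨haS, h⟩) fun h ↦ hCV ⟨haS, h⟩)
  haveI : Nonempty {Z : Set X // IsClopen Z ∧ x ∈ Z} := ⟨⟨univ, isClopen_univ, trivial⟩⟩
  obtain ⟨Z, hZ⟩ := hK.elim_directed_family_closed (fun Z : {Z : Set X // IsClopen Z ∧ x ∈ Z} ↦ Z.1)
    (fun Z ↦ Z.2.1.1) hKS fun Z Z' ↦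
      ⟨⟨Z.1 ∩ Z'.1, Z.2.1.inter Z'.2.1, Z.2.2, Z'.2.2⟩, inter_subset_left, inter_subset_right⟩
  have hZcov : ∀ a ∈ Z.1, a ∈ U ∪ V := fun a ha ↦ by_contra fun h ↦
    (Set.ext_iff.1 hZ a).1 ⟨.inr h, ha⟩
  have hZd : ∀ a ∈ Z.1, a ∈ U → a ∉ V := fun a ha hU hV ↦
    (Set.ext_iff.1 hZ a).1 ⟨.inl ⟨hU, hV⟩, ha⟩
  have hZU : IsClopen (Z.1 ∩ U) := by
    refine ⟨?_, Z.2.1.2.inter hUo⟩
    rw [show Z.1 ∩ U = Z.1 ∩ Vᶜ by
      ext a; exact ⟨fun h ↦ ⟨h.1, hZd a h.1 h.2⟩, fun h ↦ ⟨h.1, (hZcov a h.1).resolve_right h.2⟩⟩]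
    exact Z.2.1.1.inter hVo.isClosed_compl
  have hZV : IsClopen (Z.1 ∩ V) := by
    refine ⟨?_, Z.2.1.2.inter hVo⟩
    rw [show Z.1 ∩ V = Z.1 ∩ Uᶜ by
      ext a; exact ⟨fun h ↦ ⟨h.1, fun hU ↦ hZd a h.1 hU h.2⟩,
        fun h ↦ ⟨h.1, (hZcov a h.1).resolve_left h.2⟩⟩]
    exact Z.2.1.1.inter hUo.isClosed_compl
  rcases hZcov x Z.2.2 with hx | hx
  · left
    intro a ha
    exact (hsub ha).resolve_right fun hc ↦ hUC
      (ha (Z.1 ∩ U) ⟨hZU, Z.2.2, hx⟩).2 ⟨ha, hc⟩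
  · right
    intro a ha
    exact (hsub ha).resolve_left fun hb ↦ disjoint_left.1 hUVS
      ⟨hBU ⟨ha, hb⟩, (ha (Z.1 ∩ V) ⟨hZV, Z.2.2, hx⟩).2⟩ ha

end Groth.Agent.PtSet
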