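import Mathlib.Topology.Spectral.ConstructibleTopology
import Mathlib.Topology.Spectral.Hom
import Mathlib.Topology.Constructible
import Mathlib.Topology.Connected.TotallyDisconnected
import Mathlib.Topology.Constructions.SumProd
import Mathlib.Topology.Maps.Basic

/-!
Spectral spaces: the patch criterion and basic properties of the constructible topology.
-/

open Set Topology TopologicalSpace

namespace Groth.Agent.PtSet

section Criterion

variable {X P : Type*} [TopologicalSpace X] [TopologicalSpace P]

/-- The patch criterion: a T₀ space receiving a surjection from a compact space, such that a basis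
pulls back to clopen sets, is spectral. -/
theorem spectralSpace_of_patch [T0Space X] [CompactSpace P] {p : P → X}
    (hp : Function.Surjective p) {B : Set (Set X)} (hB : IsTopologicalBasis B)
    (hcl : ∀ U ∈ B, IsClopen (p ⁻¹' U)) : SpectralSpace X := by
  have hcont : Continuous p := hB.continuous_iff.2 fun U hU ↦ (hcl U hU).2
  have hck : ∀ K : Set X, IsClosed (p ⁻¹' K) → IsCompact K := fun K hK ↦ by
    simpa [image_preimage_eq _ hp] using hK.isCompact.image hcont
  haveI : CompactSpace X := ⟨hck _ isClosed_univ⟩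
  haveI : PrespectralSpace X := .of_isTopologicalBasis hB fun U hU ↦ hck U (hcl U hU).1
  have hco : ∀ U : Set X, IsOpen U → IsCompact U → IsClosed (p ⁻¹' U) := by
    intro U hU hUc
    obtain ⟨s, hs, rfl⟩ := (isCompact_open_iff_eq_finite_iUnion_of_isTopologicalBasis
      (fun U : B ↦ U.1) (by simpa using hB) (fun U ↦ hck _ (hcl _ U.2).1) U).1 ⟨hUc, hU⟩
    simp only [preimage_iUnion]
    exact hs.isClosed_biUnion fun V _ ↦ (hcl _ V.2).1
  haveI : QuasiSeparatedSpace X := ⟨fun U V hU hUc hV hVc ↦
    hck _ ((hco U hU hUc).inter (hco V hV hVc))⟩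
  haveI : QuasiSober X := by
    refine ⟨fun {Z} hZi hZc ↦ ?_⟩
    classical
    have hfip : ∀ u : Finset {U // U ∈ B ∧ (Z ∩ U).Nonempty},
        ((p ⁻¹' Z) ∩ ⋂ U ∈ u, p ⁻¹' U.1).Nonempty := by
      intro u
      obtain ⟨z, hz⟩ := (isIrreducible_iff_sInter (s := Z)).1 hZi (u.image fun U ↦ U.1)
        (by simp only [Finset.mem_image]; rintro _ ⟨U, -, rfl⟩; exact hB.isOpen U.2.1)
        (by simp only [Finset.mem_image]; rintro _ ⟨U, -, rfl⟩; exact U.2.2)
      obtain ⟨a, rfl⟩ := hp z
      exact ⟨a, hz.1, mem_iInter₂.2 fun U hU ↦ hz.2 U.1 (by simpa using ⟨U.2, hU⟩)⟩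
    obtain ⟨a, ha, ha'⟩ := (hZc.preimage hcont).isCompact.inter_iInter_nonempty
      (fun U : {U // U ∈ B ∧ (Z ∩ U).Nonempty} ↦ p ⁻¹' U.1) (fun U ↦ (hcl _ U.2.1).1) hfip
    refine ⟨p a, subset_antisymm (closure_minimal (singleton_subset_iff.2 ha) hZc) fun z hz ↦ ?_⟩
    rw [hB.mem_closure_iff]
    intro U hU hzU
    exact ⟨p a, mem_iInter.1 ha' ⟨U, hU, z, hz, hzU⟩, rfl⟩
  exact SpectralSpace.mk

end Criterion

variable {X : Type*} [TopologicalSpace X]

lemma isClosed_patch_iff {E : Set X} : IsClosed[constructibleTopology X] E ↔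
    IsClosed (WithTopology.ofTopology ⁻¹' E : Set (WithConstructibleTopology X)) :=
  (WithConstructibleTopology.isClosed_iff
    (s := (WithTopology.ofTopology ⁻¹' E : Set (WithConstructibleTopology X)))).symm

lemma isOpen_patch_iff {E : Set X} : IsOpen[constructibleTopology X] E ↔
    IsOpen (WithTopology.ofTopology ⁻¹' E : Set (WithConstructibleTopology X)) :=
  (WithConstructibleTopology.isOpen_iff
    (s := (WithTopology.ofTopology ⁻¹' E : Set (WithConstructibleTopology X)))).symm

/-- The preimage of a set in the constructible space. -/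
abbrev toPatch (E : Set X) : Set (WithConstructibleTopology X) := WithTopology.ofTopology ⁻¹' E

lemma isClopen_toPatch {U : Set X} (hU : IsOpen U) (hc : IsCompact U) : IsClopen (toPatch U) := by
  refine ⟨?_, isOpen_patch_iff.1 (hc.isOpen_constructibleTopology_of_isOpen hU)⟩
  rw [← isOpen_compl_iff, ← preimage_compl]
  exact isOpen_patch_iff.1 (IsCompact.isOpen_constructibleTopology_of_isClosed
    (by rwa [compl_compl]) hU.isClosed_compl)

lemma isClopen_toPatch_of_isConstructible [CompactSpace X] {s : Set X} (hs : IsConstructible s) :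
    IsClopen (toPatch s) := by
  induction hs using IsConstructible.empty_union_induction with
  | open_retrocompact U hU hUr => exact isClopen_toPatch hU hUr.isCompact
  | union s _ t _ hs ht => exact hs.union ht
  | compl s _ hs => exact hs.compl

lemma continuous_fromPatch [PrespectralSpace X] :
    Continuous (WithTopology.ofTopology : WithConstructibleTopology X → X) :=
  PrespectralSpace.isTopologicalBasis.continuous_iff.2 fun _ hU ↦ (isClopen_toPatch hU.1 hU.2).2

section Spectral

variable [SpectralSpace X]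

lemma exists_compactOpen_separating {x y : X} (h : x ≠ y) :
    ∃ U : Set X, IsOpen U ∧ IsCompact U ∧ (x ∈ U ↔ y ∉ U) := by
  obtain ⟨V, hV, hxV⟩ := exists_isOpen_xor_mem h
  rcases hxV with ⟨hx, hy⟩ | ⟨hy, hx⟩
  · obtain ⟨U, ⟨hU, hUc⟩, hxU, hUV⟩ :=
      PrespectralSpace.isTopologicalBasis.exists_subset_of_mem_open hx hV
    exact ⟨U, hU, hUc, iff_of_true hxU fun h ↦ hy (hUV h)⟩
  · obtain ⟨U, ⟨hU, hUc⟩, hyU, hUV⟩ :=
      PrespectralSpace.isTopologicalBasis.exists_subset_of_mem_open hy hV
    exact ⟨U, hU, hUc, iff_of_false (fun h ↦ hx (hUV h)) (not_not.2 hyU)⟩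

lemma exists_clopen_toPatch_separating {a b : WithConstructibleTopology X} (h : a ≠ b) :
    ∃ U : Set (WithConstructibleTopology X), IsClopen U ∧ a ∈ U ∧ b ∉ U := by
  obtain ⟨U, hU, hUc, hxy⟩ :=
    exists_compactOpen_separating ((WithTopology.ofTopology_injective _).ne h)
  by_cases hx : a ∈ toPatch U
  · exact ⟨_, isClopen_toPatch hU hUc, hx, hxy.1 hx⟩
  · exact ⟨_, (isClopen_toPatch hU hUc).compl, hx,
      fun hy ↦ hy (not_not.1 (fun h' ↦ hx (hxy.2 h')))⟩

instance t2Space_patch : T2Space (WithConstructibleTopology X) := by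
  refine ⟨fun x y h ↦ ?_⟩
  obtain ⟨U, hU, hx, hy⟩ := exists_clopen_toPatch_separating h
  exact ⟨U, Uᶜ, hU.2, hU.compl.2, hx, hy, disjoint_compl_right⟩

lemma totallyDisconnectedSpace_patch : TotallyDisconnectedSpace (WithConstructibleTopology X) := by
  refine ⟨fun s _ hs x hx y hy ↦ by_contra fun hne ↦ ?_⟩
  obtain ⟨U, hU, hxU, hyU⟩ := exists_clopen_toPatch_separating hne
  exact hyU (hs.subset_isClopen hU ⟨x, hx, hxU⟩ hy)

lemma isCompact_of_isClosed_toPatch {K : Set X} (hK : IsClosed (toPatch K)) : IsCompact K := by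
  simpa [image_preimage_eq _ (WithTopology.ofTopology_surjective _)] using
    hK.isCompact.image (continuous_fromPatch (X := X))

/-- Points in the closure of a patch-closed set are specializations of its points. -/
lemma exists_specializes_of_mem_closure {E : Set X} (hE : IsClosed (toPatch E))
    {x : X} (hx : x ∈ closure E) : ∃ e ∈ E, e ⤳ x := by
  have hfip : ∀ u : Finset {U : Set X // (IsOpen U ∧ IsCompact U) ∧ x ∈ U},
      (toPatch E ∩ ⋂ U ∈ u, toPatch U.1).Nonempty := by
    intro u
    obtain ⟨e, he, he'⟩ := mem_closure_iff.1 hx (⋂ U ∈ u, U.1)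
      (isOpen_biInter_finset fun U _ ↦ U.2.1.1) (mem_iInter₂.2 fun U _ ↦ U.2.2)
    exact ⟨WithTopology.toTopology _ e, he',
      mem_iInter₂.2 fun U hU ↦ mem_iInter₂.1 he U hU⟩
  obtain ⟨e, he, he'⟩ := hE.isCompact.inter_iInter_nonempty
    (fun U : {U : Set X // (IsOpen U ∧ IsCompact U) ∧ x ∈ U} ↦ toPatch U.1)
    (fun U ↦ (isClopen_toPatch U.2.1.1 U.2.1.2).1) hfip
  refine ⟨e.ofTopology, he, specializes_iff_mem_closure.2 ?_⟩
  rw [PrespectralSpace.isTopologicalBasis.mem_closure_iff]
  exact fun U hU hxU ↦ ⟨_, mem_iInter.1 he' ⟨U, hU, hxU⟩, rfl⟩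

lemma isClosed_of_toPatch {E : Set X} (hE : IsClosed (toPatch E))
    (hs : StableUnderSpecialization E) : IsClosed E :=
  isClosed_of_closure_subset fun _ hx ↦
    let ⟨_, he, hex⟩ := exists_specializes_of_mem_closure hE hx; hs hex he

lemma isOpen_of_toPatch {E : Set X} (hE : IsOpen (toPatch E))
    (hs : StableUnderGeneralization E) : IsOpen E :=
  isClosed_compl_iff.1 <| isClosed_of_toPatch hE.isClosed_compl hs.compl

/-- Patch-closed subsets of spectral spaces are spectral. -/
lemma spectralSpace_of_isClosed_toPatch {E : Set X} (hE : IsClosed (toPatch E)) :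
    SpectralSpace E := by
  haveI : CompactSpace (toPatch E) := isCompact_iff_compactSpace.1 hE.isCompact
  refine spectralSpace_of_patch (p := fun a : toPatch E ↦ (⟨a.1.ofTopology, a.2⟩ : E))
    (fun e ↦ ⟨⟨WithTopology.toTopology _ e.1, e.2⟩, rfl⟩)
    (PrespectralSpace.isTopologicalBasis.isInducing IsInducing.subtypeVal) ?_
  rintro _ ⟨U, hU, rfl⟩
  exact (isClopen_toPatch hU.1 hU.2).preimage continuous_subtype_val

variable {Y : Type*} [TopologicalSpace Y]

lemma continuous_patchMap {f : X → Y} (hf : IsSpectralMap f) :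
    Continuous fun a : WithConstructibleTopology X ↦
      WithTopology.toTopology (constructibleTopology Y) (f a.ofTopology) := by
  refine continuous_def.2 fun s hs ↦ ?_
  change GenerateOpen (constructibleTopologySubbasis Y) (WithTopology.toTopology _ ⁻¹' s) at hs
  change IsOpen (toPatch (f ⁻¹' (WithTopology.toTopology _ ⁻¹' s)))
  generalize (WithTopology.toTopology (constructibleTopology Y) ⁻¹' s) = S at hs ⊢
  induction hs with
  | basic U hU =>
    rcases hU with hU | hU
    · exact (isClopen_toPatch (hU.1.preimage hf.continuous) (hU.2.preimage_of_isOpen hf hU.1)).2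
    · have h := (isClopen_toPatch (hU.1.isOpen_compl.preimage hf.continuous)
        (hU.2.preimage_of_isOpen hf hU.1.isOpen_compl)).1
      rw [← isOpen_compl_iff, toPatch, preimage_compl, preimage_compl, compl_compl] at h
      exact h
  | univ => simp
  | inter s t _ _ hs ht => exact hs.inter ht
  | sUnion S _ ih =>
    simp only [toPatch, preimage_sUnion, preimage_iUnion]
    exact isOpen_biUnion ih

lemma isClosed_toPatch_preimage {f : X → Y} (hf : IsSpectralMap f) {E : Set Y}
    (hE : IsClosed (toPatch E)) : IsClosed (toPatch (f ⁻¹' E)) :=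
  hE.preimage (continuous_patchMap hf)

lemma isOpen_toPatch_preimage {f : X → Y} (hf : IsSpectralMap f) {E : Set Y}
    (hE : IsOpen (toPatch E)) : IsOpen (toPatch (f ⁻¹' E)) :=
  hE.preimage (continuous_patchMap hf)

lemma isSpectralMap_of_patch {f : X → Y} (hf : Continuous f)
    (h : ∀ U : Set Y, IsOpen U → IsCompact U → IsClosed (toPatch (f ⁻¹' U))) : IsSpectralMap f where
  toContinuous := hf
  isCompact_preimage_of_isOpen U hU hUc := isCompact_of_isClosed_toPatch (h U hU hUc)

lemma isClosed_toPatch_image [SpectralSpace Y] {f : X → Y} (hf : IsSpectralMap f) {E : Set X}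
    (hE : IsClosed (toPatch E)) : IsClosed (toPatch (f '' E)) := by
  have := (hE.isCompact.image (continuous_patchMap hf)).isClosed
  convert this using 1
  ext a
  constructor
  · rintro ⟨x, hx, hxa⟩
    exact ⟨WithTopology.toTopology _ x, hx, WithTopology.ofTopology_injective _ hxa⟩
  · rintro ⟨x, hx, rfl⟩
    exact ⟨_, hx, rfl⟩

end Spectral

end Groth.Agent.PtSet
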