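import Groth.Prelude.Def_W4stktopologysheavesDim
import Mathlib.Data.ENat.Lattice
import Mathlib.Topology.Sober

/-!
Catenary orders and catenary spaces, dimension functions.
-/

open Set Topology TopologicalSpace

namespace Groth.Agent.PtSet

section Order

variable {α β : Type*} [PartialOrder α] [PartialOrder β]

/-- The supremum of lengths of chains starting at `a` and staying below `b`. -/
noncomputable def codimO (a b : α) : ℕ∞ :=
  ⨆ (s : LTSeries α) (_ : s.head = a ∧ s.last ≤ b), (s.length : ℕ∞)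

/-- All steps of the series are coverings. -/
def Saturated (s : LTSeries α) : Prop :=
  ∀ i : Fin s.length, s (Fin.castSucc i) ⋖ s (Fin.succ i)

/-- Catenary partial orders. -/
def IsCatenaryOrder (α : Type*) [PartialOrder α] : Prop :=
  ∀ a b : α, a ≤ b → codimO a b ≠ ⊤ ∧ ∀ s : LTSeries α, s.head = a → s.last = b →
    Saturated s → (s.length : ℕ∞) = codimO a b

lemma le_codimO {a b : α} {s : LTSeries α} (h1 : s.head = a) (h2 : s.last ≤ b) :
    (s.length : ℕ∞) ≤ codimO a b :=
  le_iSup₂_of_le (f := fun (s : LTSeries α) (_ : s.head = a ∧ s.last ≤ b) ↦ (s.length : ℕ∞))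
    s ⟨h1, h2⟩ le_rfl

lemma exists_maximal_series {a b : α} (hab : a ≤ b) (h : codimO a b ≠ ⊤) :
    ∃ s : LTSeries α, s.head = a ∧ s.last = b ∧ Saturated s ∧ (s.length : ℕ∞) = codimO a b := by
  have e : codimO a b = ⨆ s : {s : LTSeries α // s.head = a ∧ s.last ≤ b}, (s.1.length : ℕ∞) := by
    rw [iSup_subtype]
    rfl
  haveI : Nonempty {s : LTSeries α // s.head = a ∧ s.last ≤ b} :=
    ⟨⟨RelSeries.singleton _ a, rfl, hab⟩⟩
  obtain ⟨⟨s, h1, h2⟩, hs⟩ := ENat.exists_eq_iSup_of_lt_top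
    (f := fun s : {s : LTSeries α // s.head = a ∧ s.last ≤ b} ↦ (s.1.length : ℕ∞))
    (e ▸ lt_top_iff_ne_top.2 h)
  have hs' : (s.length : ℕ∞) = codimO a b := hs.trans e.symm
  have hmax : ∀ t : LTSeries α, t.head = a → t.last ≤ b → t.length ≤ s.length := fun t t1 t2 ↦ by
    have := le_codimO t1 t2
    rw [← hs'] at this
    exact_mod_cast this
  refine ⟨s, h1, ?_, fun i ↦ ⟨s.step i, fun c hc hc' ↦ ?_⟩, hs'⟩
  · by_contra hne
    have := hmax (s.snoc b (lt_of_le_of_ne h2 hne)) (by simpa using h1) (by simp)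
    simp at this
  · have := hmax (s.insertNth i c hc hc') ?_ ?_
    · simp at this
    · simp only [RelSeries.head, RelSeries.insertNth]
      rw [Fin.insertNth_apply_below (show (0 : ℕ) < i.1 + 1 by omega)]
      simp only [eq_rec_constant]
      exact (congrArg s.toFun (Fin.ext (by simp))).trans h1
    · simp only [RelSeries.last, RelSeries.insertNth]
      rw [Fin.insertNth_apply_above (by rw [Fin.lt_def]; simp)]
      simp only [eq_rec_constant]
      refine le_of_eq_of_le (congrArg s.toFun ?_) h2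
      ext
      simp

lemma saturated_smash {s t : LTSeries α} (hs : Saturated s) (ht : Saturated t)
    (h : s.last = t.head) : Saturated (s.smash t h) := by
  intro i
  obtain ⟨i, hi⟩ := i
  by_cases hlt : i < s.length
  · have h1 := RelSeries.smash_castAdd h ⟨i, hlt⟩
    have h2 := RelSeries.smash_succ_castAdd h ⟨i, hlt⟩
    exact h1.symm ▸ h2.symm ▸ hs ⟨i, hlt⟩
  · have hi' : i < s.length + t.length := hi
    obtain ⟨j, rfl⟩ : ∃ j, i = s.length + j := ⟨i - s.length, by omega⟩
    have h1 := RelSeries.smash_natAdd h ⟨j, by omega⟩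
    have h2 := RelSeries.smash_succ_natAdd h ⟨j, by omega⟩
    exact h1.symm ▸ h2.symm ▸ ht ⟨j, by omega⟩

lemma codimO_eq_one_of_covBy {a b : α} (h : a ⋖ b) (hne : codimO a b ≠ ⊤) : codimO a b = 1 := by
  obtain ⟨s, h1, h2, hs, hl⟩ := exists_maximal_series h.le hne
  rw [← hl]
  rcases hn : s.length with _ | _ | n
  · exfalso
    refine h.ne ?_
    rw [← h1, ← h2, RelSeries.head, RelSeries.last]
    congr 1
    ext
    simp [hn]
  · rfl
  · exfalso
    have e1 : s.head < s ⟨1, by omega⟩ := s.strictMono (by simp [Fin.lt_def])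
    have e2 : s ⟨1, by omega⟩ < s.last := s.strictMono (by simp [Fin.lt_def, hn])
    exact h.2 (h1 ▸ e1) (h2 ▸ e2)

theorem isCatenaryOrder_iff :
    IsCatenaryOrder α ↔ (∀ a b : α, a ≤ b → codimO a b ≠ ⊤) ∧
      ∀ a b c : α, a ≤ b → b ≤ c → codimO a c = codimO a b + codimO b c := by
  constructor
  · intro h
    refine ⟨fun a b hab ↦ (h a b hab).1, fun a b c hab hbc ↦ ?_⟩
    obtain ⟨s, s1, s2, ss, sl⟩ := exists_maximal_series hab (h a b hab).1
    obtain ⟨t, t1, t2, ts, tl⟩ := exists_maximal_series hbc (h b c hbc).1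
    have := (h a c (hab.trans hbc)).2 (s.smash t (s2.trans t1.symm)) (by simpa using s1)
      (by simpa using t2) (saturated_smash ss ts _)
    rw [← this, ← sl, ← tl]
    exact Nat.cast_add s.length t.length
  · rintro ⟨hfin, hadd⟩
    refine fun a b hab ↦ ⟨hfin a b hab, fun s h1 h2 hs ↦ ?_⟩
    have key : ∀ k : ℕ, ∀ hk : k ≤ s.length,
        codimO a (s ⟨k, by omega⟩) = (k : ℕ∞) := by
      intro k
      induction k with
      | zero =>
        intro _
        refine le_antisymm (iSup₂_le fun t ht ↦ ?_) bot_le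
        have : t.last ≤ t.head := by rw [ht.1, ← h1]; exact ht.2
        simp only [Nat.cast_zero, nonpos_iff_eq_zero, Nat.cast_eq_zero]
        by_contra hne
        exact (t.strictMono (show (0 : Fin (t.length + 1)) < Fin.last _ by
          simp [Fin.lt_def]; omega)).not_ge this
      | succ k ih =>
        intro hk
        have hc : s ⟨k, by omega⟩ ⋖ s ⟨k + 1, by omega⟩ := hs ⟨k, by omega⟩
        have ha : a ≤ s ⟨k, by omega⟩ := h1 ▸ LTSeries.head_le s _
        rw [hadd a _ _ ha hc.le, ih (by omega), codimO_eq_one_of_covBy hc (hfin _ _ hc.le)]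
        simp
    rw [← h2]
    exact (key s.length le_rfl).symm

variable (φ : α ↪o β)

/-- Transport along an embedding onto a convex subset. -/
lemma codimO_map (hφ : ∀ a b w, φ a ≤ w → w ≤ φ b → ∃ c, φ c = w) (a b : α) :
    codimO (φ a) (φ b) = codimO a b := by
  refine le_antisymm (iSup₂_le fun s hs ↦ ?_) (iSup₂_le fun s hs ↦ ?_)
  · choose c hc using fun i ↦ hφ a b (s i) (hs.1 ▸ LTSeries.head_le s i)
      ((s.monotone (Fin.le_last i)).trans hs.2)
    let t : LTSeries α := ⟨s.length, c, fun i ↦ φ.lt_iff_lt.1 (by rw [hc, hc]; exact s.step i)⟩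
    refine le_codimO (s := t) (φ.injective ((hc 0).trans hs.1)) (φ.le_iff_le.1 ?_)
    exact (hc (Fin.last _)).le.trans hs.2
  · exact le_codimO (s := s.map φ φ.strictMono) (by simp [hs.1]) (by simpa using hs.2)

lemma isCatenaryOrder_of_embedding (hφ : ∀ a b w, φ a ≤ w → w ≤ φ b → ∃ c, φ c = w)
    (h : IsCatenaryOrder β) : IsCatenaryOrder α := by
  rw [isCatenaryOrder_iff] at h ⊢
  refine ⟨fun a b hab ↦ ?_, fun a b c hab hbc ↦ ?_⟩
  · rw [← codimO_map φ hφ]; exact h.1 _ _ (φ.monotone hab)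
  · simp only [← codimO_map φ hφ]; exact h.2 _ _ _ (φ.monotone hab) (φ.monotone hbc)

/-- An integer grading forces catenarity. -/
theorem catenary_of_grading (δ : α → ℤ) (hmono : ∀ a b, a < b → δ a < δ b)
    (hcov : ∀ a b, a ⋖ b → δ b = δ a + 1) :
    IsCatenaryOrder α ∧ ∀ a b, a ≤ b → codimO a b = ((δ b - δ a).toNat : ℕ∞) := by
  have hle : ∀ a b, a ≤ b → δ a ≤ δ b := fun a b h ↦
    (eq_or_lt_of_le h).elim (fun e ↦ e ▸ le_rfl) fun h ↦ (hmono a b h).le
  have hlen : ∀ s : LTSeries α, δ s.head + s.length ≤ δ s.last := by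
    intro s
    have := LTSeries.head_add_length_le_int (s.map δ fun a b h ↦ hmono a b h)
    simpa using this
  have hfin : ∀ a b : α, codimO a b ≤ ((δ b - δ a).toNat : ℕ∞) := fun a b ↦
    iSup₂_le fun s hs ↦ by
      have := hlen s
      have := hle _ _ hs.2
      rw [hs.1] at *
      exact_mod_cast (by omega : s.length ≤ (δ b - δ a).toNat)
  have hsat : ∀ s : LTSeries α, Saturated s → δ s.last = δ s.head + s.length := by
    intro s hs
    have key : ∀ k : ℕ, ∀ hk : k ≤ s.length, δ (s ⟨k, by omega⟩) = δ s.head + k := by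
      intro k
      induction k with
      | zero => intro _; simp [RelSeries.head]
      | succ k ih =>
        intro hk
        have hc : s ⟨k, by omega⟩ ⋖ s ⟨k + 1, by omega⟩ := hs ⟨k, by omega⟩
        rw [hcov _ _ hc, ih (by omega)]
        push_cast
        omega
    exact key s.length le_rfl
  have heq : ∀ a b, a ≤ b → codimO a b = ((δ b - δ a).toNat : ℕ∞) := by
    intro a b hab
    obtain ⟨s, h1, h2, hs, hl⟩ := exists_maximal_series hab ((hfin a b).trans_lt (ENat.natCast_lt_top _)).ne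
    rw [← hl, ← h1, ← h2, hsat s hs]
    simp
  refine ⟨fun a b hab ↦ ⟨((hfin a b).trans_lt (ENat.natCast_lt_top _)).ne, fun s h1 h2 hs ↦ ?_⟩, heq⟩
  rw [heq a b hab, ← h1, ← h2, hsat s hs]
  simp

end Order

universe u

variable {X : Type u} [TopologicalSpace X]

lemma codim_eq (Y Y' : IrreducibleCloseds X) : PtTop.codim Y (Y' : Set X) = codimO Y Y' := rfl

lemma isCatenarySpace_iff : PtTop.IsCatenarySpace X ↔ IsCatenaryOrder (IrreducibleCloseds X) :=
  Iff.rfl

/-- The embedding of irreducible closed subsets of a subspace. -/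
noncomputable def closedsEmb (S : Set X) : IrreducibleCloseds S ↪o IrreducibleCloseds X :=
  OrderEmbedding.ofMapLEIff (IrreducibleCloseds.map Subtype.val continuous_subtype_val)
    fun A B ↦ by
      refine ⟨fun h a ha ↦ ?_, fun h ↦ IrreducibleCloseds.map_mono continuous_subtype_val h⟩
      have h1 : a ∈ closure (B : Set S) := closure_subtype.2 (h (subset_closure ⟨a, ha, rfl⟩))
      rwa [B.isClosed.closure_eq] at h1

lemma mem_range_closedsEmb {U F : Set X} (hU : IsOpen U) (hF : IsClosed F)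
    (W : IrreducibleCloseds X) (hWF : (W : Set X) ⊆ F) (hWU : ((W : Set X) ∩ U).Nonempty) :
    ∃ c, closedsEmb (U ∩ F) c = W := by
  have hne : ((W : Set X) ∩ (U ∩ F)).Nonempty := let ⟨a, ha⟩ := hWU; ⟨a, ha.1, ha.2, hWF ha.1⟩
  have hcl : closure ((W : Set X) ∩ (U ∩ F)) = W := by
    refine subset_antisymm (closure_minimal inter_subset_left W.isClosed) ?_
    exact (subset_closure_inter_of_isPreirreducible_of_isOpen W.isIrreducible.isPreirreducible hU
      hWU).trans (closure_mono fun a ha ↦ ⟨ha.1, ha.2, hWF ha.1⟩)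
  have himg : Subtype.val '' (Subtype.val ⁻¹' (W : Set X) : Set ↥(U ∩ F)) =
      (W : Set X) ∩ (U ∩ F) := by
    rw [Subtype.image_preimage_coe, inter_comm]
  have hi : IsIrreducible (Subtype.val ⁻¹' (W : Set X) : Set ↥(U ∩ F)) := by
    refine ⟨let ⟨a, ha⟩ := hne; ⟨⟨a, ha.2⟩, ha.1⟩, fun A B hA hB h1 h2 ↦ ?_⟩
    obtain ⟨A, hA', rfl⟩ := isOpen_induced_iff.1 hA
    obtain ⟨B, hB', rfl⟩ := isOpen_induced_iff.1 hB
    obtain ⟨a, ha, ha'⟩ := h1
    obtain ⟨b, hb, hb'⟩ := h2
    obtain ⟨c, hc, ⟨hcA, hcU⟩, hcB⟩ := W.isIrreducible.isPreirreducible (A ∩ U) B (hA'.inter hU)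
      hB' ⟨a, ha, ha', a.2.1⟩ ⟨b, hb, hb'⟩
    exact ⟨⟨c, hcU, hWF hc⟩, hc, hcA, hcB⟩
  refine ⟨⟨_, hi, W.isClosed.preimage continuous_subtype_val⟩, IrreducibleCloseds.ext ?_⟩
  change closure _ = (W : Set X)
  exact (congrArg closure himg).trans hcl

lemma closedsEmb_ordConnected {U F : Set X} (hU : IsOpen U) (hF : IsClosed F)
    (a b : IrreducibleCloseds ↥(U ∩ F)) (w : IrreducibleCloseds X)
    (h1 : closedsEmb (U ∩ F) a ≤ w) (h2 : w ≤ closedsEmb (U ∩ F) b) :
    ∃ c, closedsEmb (U ∩ F) c = w := by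
  refine mem_range_closedsEmb hU hF w ((show (w : Set X) ⊆ _ from h2).trans
    (closure_minimal (by rintro _ ⟨x, -, rfl⟩; exact x.2.2) hF)) ?_
  obtain ⟨x, hx⟩ := a.isIrreducible.nonempty
  exact ⟨x.1, h1 (subset_closure ⟨x, hx, rfl⟩), x.2.1⟩

end Groth.Agent.PtSet
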