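import Mathlib.Topology.Compactness.LocallyCompact
import Mathlib.Topology.Separation.Regular

/-!
Shrinking covers of compact subsets compatibly with open sets given on multiple intersections.
-/

open Set Topology

namespace Groth.Agent.PtSet

variable {X ι : Type*} [TopologicalSpace X]

/-- The common step: if each point of `Z` has an open neighbourhood `A` inside some `U i` with
`P i A`, where `P i` is stable under finite unions and shrinking, the cover can be refined so that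
intersections are inside the prescribed opens `W`. -/
theorem exists_shrink_lifting {Z : Set X} (hZ : IsCompact Z) (U : ι → Set X)
    (P : ι → Set X → Prop) (hP0 : ∀ i, P i ∅) (hPu : ∀ i A B, P i A → P i B → P i (A ∪ B))
    (hPm : ∀ i A B, A ⊆ B → P i B → P i A)
    (hPcl : ∀ i A, P i A → closure A ∩ Z ⊆ U i)
    (hloc : ∀ z ∈ Z, ∃ i A, IsOpen A ∧ z ∈ A ∧ A ⊆ U i ∧ P i A)
    (p : ℕ) (W : (Fin (p + 1) → ι) → Set X) (hWo : ∀ t, IsOpen (W t))
    (hWZ : ∀ t, W t ∩ Z = (⋂ l, U (t l)) ∩ Z) :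
    ∃ V : ι → Set X, (∀ i, IsOpen (V i)) ∧ (Z ⊆ ⋃ i, V i) ∧ (∀ i, V i ⊆ U i ∧ P i (V i)) ∧
      ∀ t : Fin (p + 1) → ι, (⋂ l, V (t l)) ⊆ W t := by
  classical
  choose i A hA hzA hAU hPA using fun z : Z ↦ hloc z.1 z.2
  obtain ⟨s', hcov⟩ := hZ.elim_finite_subcover A hA
    (fun z hz ↦ mem_iUnion.2 ⟨⟨z, hz⟩, hzA ⟨z, hz⟩⟩)
  let s : Set Z := ↑s'
  have hsf : s.Finite := s'.finite_toSet
  let O : ι → Set X := fun j ↦ ⋃ z ∈ {z ∈ s | i z = j}, A z
  have hOP : ∀ j, P j (O j) := by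
    intro j
    suffices ∀ S : Set Z, S.Finite → S ⊆ {z : Z | z ∈ s ∧ i z = j} → P j (⋃ z ∈ S, A z) from
      this _ (hsf.subset fun z hz ↦ hz.1) subset_rfl
    intro S hS
    induction S, hS using Set.Finite.induction_on with
    | empty => intro _; simpa using hP0 j
    | @insert a S _ _ ih =>
      intro hsub
      rw [biUnion_insert]
      obtain ⟨has, rfl⟩ := hsub (mem_insert _ _)
      exact hPu _ _ _ (hPA a) (ih ((subset_insert _ _).trans hsub))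
  let bad : Set X := ⋃ t ∈ {t : Fin (p + 1) → ι | ∀ l, t l ∈ i '' s},
    (⋂ l, closure (O (t l))) \ W t
  have hTf : {t : Fin (p + 1) → ι | ∀ l, t l ∈ i '' s}.Finite :=
    Set.Finite.pi' fun _ ↦ hsf.image i
  have hbad : IsClosed bad := hTf.isClosed_biUnion fun t _ ↦
    (isClosed_iInter fun l ↦ isClosed_closure).sdiff (hWo t)
  have hbadZ : ∀ z ∈ Z, z ∉ bad := by
    intro z hz hzb
    obtain ⟨t, -, ht, htW⟩ := mem_iUnion₂.1 hzb
    exact htW ((hWZ t).ge ⟨mem_iInter.2 fun l ↦ hPcl _ _ (hOP _) ⟨mem_iInter.1 ht l, hz⟩, hz⟩).1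
  refine ⟨fun j ↦ O j ∩ badᶜ, fun j ↦ (isOpen_biUnion fun z _ ↦ hA z).inter
    hbad.isOpen_compl, fun z hz ↦ ?_, fun j ↦ ⟨?_, hPm _ _ _ inter_subset_left (hOP j)⟩, ?_⟩
  · obtain ⟨a, ha, hza⟩ := mem_iUnion₂.1 (hcov hz)
    exact mem_iUnion.2 ⟨i a, mem_iUnion₂.2 ⟨a, ⟨ha, rfl⟩, hza⟩, hbadZ z hz⟩
  · rintro x ⟨hx, -⟩
    obtain ⟨a, ⟨ha, rfl⟩, hxa⟩ := mem_iUnion₂.1 hx
    exact hAU a hxa
  · intro t x hx
    by_contra hxW
    have hxl : ∀ l, x ∈ O (t l) ∧ x ∉ bad := fun l ↦ mem_iInter.1 hx l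
    refine (hxl 0).2 (mem_iUnion₂.2 ⟨t, fun l ↦ ?_,
      mem_iInter.2 fun l ↦ subset_closure (hxl l).1, hxW⟩)
    obtain ⟨a, ⟨ha, hia⟩, -⟩ := mem_iUnion₂.1 (hxl l).1
    exact ⟨a, ha, hia⟩

end Groth.Agent.PtSet
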