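import Groth.Prelude.Def_W4stktopologysheavesDim
import Mathlib.Topology.Spectral.Basic
import Mathlib.Topology.NoetherianSpace

/-!
Soberification: the space of irreducible closed subsets.
-/

open Set Topology TopologicalSpace

namespace Groth.Agent.PtSet

universe u

variable {X : Type u} [TopologicalSpace X]

/-- The irreducible closed sets meeting `U`. -/
def meet (U : Set X) : Set (PtTop.Sob X) :=
  {Z : IrreducibleCloseds X | ((Z : Set X) ∩ U).Nonempty}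

lemma mem_meet {U : Set X} {Z : IrreducibleCloseds X} :
    (Z : PtTop.Sob X) ∈ meet U ↔ ((Z : Set X) ∩ U).Nonempty := Iff.rfl

lemma isOpen_meet {U : Set X} (hU : IsOpen U) : IsOpen (meet U) :=
  isOpen_generateFrom_of_mem ⟨⟨U, hU⟩, rfl⟩

lemma preimage_meet {U : Set X} (hU : IsOpen U) : PtTop.toSob X ⁻¹' meet U = U := by
  ext x
  refine ⟨fun ⟨a, ha, haU⟩ ↦ ?_, fun h ↦ ⟨x, subset_closure rfl, h⟩⟩
  exact (specializes_iff_mem_closure.2 ha).mem_open hU haU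

lemma meet_inter {U V : Set X} (hU : IsOpen U) (hV : IsOpen V) :
    meet (U ∩ V) = meet U ∩ meet V := by
  ext (Z : IrreducibleCloseds X)
  exact ⟨fun ⟨a, ha, h1, h2⟩ ↦ ⟨⟨a, ha, h1⟩, a, ha, h2⟩,
    fun ⟨h1, h2⟩ ↦ Z.isIrreducible.isPreirreducible U V hU hV h1 h2⟩

lemma meet_univ : meet (univ : Set X) = univ :=
  eq_univ_of_forall fun (Z : IrreducibleCloseds X) ↦
    let ⟨a, ha⟩ := Z.isIrreducible.nonempty; ⟨a, ha, trivial⟩

lemma meet_sUnion (S : Set (Set X)) : meet (⋃₀ S) = ⋃ U ∈ S, meet U := by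
  ext (Z : IrreducibleCloseds X)
  simp only [mem_iUnion]
  exact ⟨fun ⟨a, ha, U, hU, haU⟩ ↦ ⟨U, hU, a, ha, haU⟩,
    fun ⟨U, hU, a, ha, haU⟩ ↦ ⟨a, ha, U, hU, haU⟩⟩

lemma exists_meet_eq {S : Set (PtTop.Sob X)} (hS : IsOpen S) :
    ∃ U : Set X, IsOpen U ∧ S = meet U := by
  induction hS with
  | basic s hs => obtain ⟨U, rfl⟩ := hs; exact ⟨U, U.2, rfl⟩
  | univ => exact ⟨univ, isOpen_univ, meet_univ.symm⟩
  | inter s t _ _ hs ht =>
    obtain ⟨U, hU, rfl⟩ := hs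
    obtain ⟨V, hV, rfl⟩ := ht
    exact ⟨U ∩ V, hU.inter hV, (meet_inter hU hV).symm⟩
  | sUnion S _ ih =>
    choose U hU hUs using ih
    refine ⟨⋃₀ {V | ∃ (s : _) (h : s ∈ S), U s h = V},
      isOpen_sUnion (by rintro _ ⟨s, h, rfl⟩; exact hU s h), ?_⟩
    rw [meet_sUnion]
    ext Z
    simp only [mem_sUnion, mem_iUnion]
    constructor
    · rintro ⟨s, hs, hZ⟩; exact ⟨_, ⟨s, hs, rfl⟩, hUs s hs ▸ hZ⟩
    · rintro ⟨_, ⟨s, hs, rfl⟩, hZ⟩; exact ⟨s, hs, (hUs s hs).symm ▸ hZ⟩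

lemma continuous_toSob : Continuous (PtTop.toSob X) := by
  refine continuous_def.2 fun S hS ↦ ?_
  obtain ⟨U, hU, rfl⟩ := exists_meet_eq hS
  rwa [preimage_meet hU]

lemma sob_specializes {Z W : IrreducibleCloseds X} :
    @Specializes (PtTop.Sob X) _ Z W ↔ (W : Set X) ⊆ Z := by
  constructor
  · intro h a ha
    by_contra haZ
    obtain ⟨b, hbZ, hb⟩ :=
      h.mem_open (isOpen_meet Z.isClosed.isOpen_compl) (show W ∈ meet _ from ⟨a, ha, haZ⟩)
    exact hb hbZ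
  · intro h
    refine specializes_iff_forall_open.2 fun S hS hW ↦ ?_
    obtain ⟨U, hU, rfl⟩ := exists_meet_eq hS
    exact hW.mono (inter_subset_inter_left _ h)

instance t0Space_sob : T0Space (PtTop.Sob X) :=
  ⟨fun (Z : IrreducibleCloseds X) (W : IrreducibleCloseds X) h ↦ IrreducibleCloseds.ext
    (subset_antisymm (sob_specializes.1 h.specializes') (sob_specializes.1 h.specializes))⟩

instance quasiSober_sob : QuasiSober (PtTop.Sob X) := by
  refine ⟨fun {S} hi hc ↦ ?_⟩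
  obtain ⟨U, hU, hSU⟩ := exists_meet_eq hc.isOpen_compl
  have hS : ∀ Z : IrreducibleCloseds X, (Z : PtTop.Sob X) ∈ S ↔ (Z : Set X) ⊆ Uᶜ := by
    intro Z
    rw [← not_iff_not]
    change Z ∈ Sᶜ ↔ _
    rw [hSU, mem_meet, not_subset]
    simp only [notMem_compl_iff]
    exact Iff.rfl
  have hirr : IsIrreducible Uᶜ := by
    refine ⟨?_, isPreirreducible_iff_isClosed_union_isClosed.2 fun A B hA hB hsub ↦ ?_⟩
    · obtain ⟨Z, hZ⟩ := hi.nonempty
      exact (IrreducibleCloseds.isIrreducible Z).nonempty.mono ((hS Z).1 hZ)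
    · have h := isPreirreducible_iff_isClosed_union_isClosed.1 hi.isPreirreducible
        (meet Aᶜ)ᶜ (meet Bᶜ)ᶜ (isOpen_meet hA.isOpen_compl).isClosed_compl
        (isOpen_meet hB.isOpen_compl).isClosed_compl (fun (Z : IrreducibleCloseds X) hZ ↦ by
          rw [← compl_inter, ← meet_inter hA.isOpen_compl hB.isOpen_compl]
          rintro ⟨a, ha, h1, h2⟩
          exact (hsub ((hS Z).1 hZ ha)).elim h1 h2)
      have key : ∀ C : Set X, IsClosed C → S ⊆ (meet Cᶜ)ᶜ → Uᶜ ⊆ C := by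
        intro C _ hC a ha
        by_contra haC
        exact hC ((hS ⟨closure {a}, isIrreducible_singleton.closure, isClosed_closure⟩).2
          (closure_minimal (singleton_subset_iff.2 ha) hU.isClosed_compl))
          ⟨a, subset_closure rfl, haC⟩
      exact h.imp (key A hA) (key B hB)
  refine ⟨(⟨Uᶜ, hirr, hU.isClosed_compl⟩ : IrreducibleCloseds X), ?_⟩
  refine isGenericPoint_iff_specializes.2 fun (Z : IrreducibleCloseds X) ↦ ?_
  exact sob_specializes.trans (hS Z).symm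

lemma isCompact_meet {U : Set X} (hU : IsOpen U) (hUc : IsCompact U) : IsCompact (meet U) := by
  classical
  rw [isCompact_iff_finite_subcover]
  intro ι V hV hcov
  choose W hW hWV using fun i ↦ exists_meet_eq (hV i)
  obtain ⟨t, ht⟩ := hUc.elim_finite_subcover W hW fun a ha ↦ by
    have : PtTop.toSob X a ∈ meet U := (Set.ext_iff.1 (preimage_meet hU) a).2 ha
    obtain ⟨i, hi⟩ := mem_iUnion.1 (hcov this)
    rw [hWV i] at hi
    exact mem_iUnion.2 ⟨i, (Set.ext_iff.1 (preimage_meet (hW i)) a).1 hi⟩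
  refine ⟨t, fun (Z : IrreducibleCloseds X) ⟨a, haZ, haU⟩ ↦ ?_⟩
  obtain ⟨i, hi, hai⟩ := mem_iUnion₂.1 (ht haU)
  exact mem_iUnion₂.2 ⟨i, hi, (hWV i).symm ▸ (⟨a, haZ, hai⟩ : (Z : PtTop.Sob X) ∈ meet (W i))⟩

lemma isCompact_of_isCompact_meet {U : Set X} (hU : IsOpen U) (hc : IsCompact (meet U)) :
    IsCompact U := by
  rw [isCompact_iff_finite_subcover]
  intro ι V hV hcov
  obtain ⟨t, ht⟩ := hc.elim_finite_subcover (fun i ↦ meet (V i)) (fun i ↦ isOpen_meet (hV i))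
    (fun (Z : IrreducibleCloseds X) ⟨a, ha, haU⟩ ↦
      let ⟨i, hi⟩ := mem_iUnion.1 (hcov haU); mem_iUnion.2 ⟨i, a, ha, hi⟩)
  refine ⟨t, fun a ha ↦ ?_⟩
  obtain ⟨i, hi, hai⟩ := mem_iUnion₂.1 (ht ((Set.ext_iff.1 (preimage_meet hU) a).2 ha :
    PtTop.toSob X a ∈ meet U))
  exact mem_iUnion₂.2 ⟨i, hi, (Set.ext_iff.1 (preimage_meet (hV i)) a).1 hai⟩

end Groth.Agent.PtSet
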