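import Groth.Agent.Lib.PtSet.Spectral
import Mathlib.Topology.Category.TopCat.Limits.Basic
import Mathlib.Topology.Category.TopCat.Limits.Konig
import Mathlib.CategoryTheory.Filtered.Basic
import Mathlib.CategoryTheory.Limits.Types.Limits

/-!
Limits of spectral spaces along spectral maps.
-/

open Set Topology TopologicalSpace CategoryTheory CategoryTheory.Limits

namespace Groth.Agent.PtSet

universe u

variable {J : Type u} [SmallCategory J] {F : J ⥤ TopCat.{u}} {c : Cone F}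

lemma limit_ext (hc : IsLimit c) {x y : c.pt} (h : ∀ j, c.π.app j x = c.π.app j y) : x = y :=
  (Types.isLimitEquivSections (isLimitOfPreserves (forget TopCat.{u}) hc)).injective
    (Subtype.ext (funext fun j ↦ h j))

lemma limit_exists_point (hc : IsLimit c) (s : ∀ j, F.obj j)
    (hs : ∀ {i j : J} (a : i ⟶ j), F.map a (s i) = s j) :
    ∃ x : c.pt, ∀ j, c.π.app j x = s j := by
  let e := Types.isLimitEquivSections (isLimitOfPreserves (forget TopCat.{u}) hc)
  let σ : (F ⋙ forget TopCat.{u}).sections := ⟨s, fun a ↦ hs a⟩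
  exact ⟨e.symm σ, fun j ↦ congrArg (fun z : (F ⋙ forget TopCat.{u}).sections ↦ z.1 j)
    (e.apply_symm_apply σ)⟩

lemma cone_w_apply {i j : J} (a : i ⟶ j) (x : c.pt) : F.map a (c.π.app i x) = c.π.app j x := by
  rw [← ConcreteCategory.comp_apply, c.w a]

lemma limit_eq_generateFrom (hc : IsLimit c) (hF : ∀ j, SpectralSpace (F.obj j)) :
    c.pt.str = generateFrom {s : Set c.pt | ∃ (j : J) (U : Set (F.obj j)),
      IsOpen U ∧ IsCompact U ∧ s = c.π.app j ⁻¹' U} := by
  refine le_antisymm (le_generateFrom ?_) ?_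
  · rintro _ ⟨j, U, hU, -, rfl⟩
    exact hU.preimage (c.π.app j).hom.continuous
  · rw [TopCat.induced_of_isLimit c hc]
    refine le_iInf fun j ↦ ?_
    haveI := hF j
    rw [(PrespectralSpace.isTopologicalBasis (X := F.obj j)).eq_generateFrom,
      induced_generateFrom_eq]
    refine generateFrom_anti ?_
    rintro _ ⟨U, hU, rfl⟩
    exact ⟨j, U, hU.1, hU.2, rfl⟩

theorem spectralSpace_limit (hF : ∀ j, SpectralSpace (F.obj j))
    (hFm : ∀ {i j : J} (a : i ⟶ j), IsSpectralMap (F.map a : F.obj i → F.obj j))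
    (hc : IsLimit c) :
    SpectralSpace c.pt ∧ ∀ j, IsSpectralMap (c.π.app j : c.pt → F.obj j) := by
  haveI : ∀ j, SpectralSpace (F.obj j) := hF
  let S : Set (∀ j, WithConstructibleTopology (F.obj j)) :=
    {s | ∀ (i j : J) (a : i ⟶ j), F.map a (s i).ofTopology = (s j).ofTopology}
  have hS : IsClosed S := by
    simp only [S, Set.ofPred_forall]
    refine isClosed_iInter fun i ↦ isClosed_iInter fun j ↦ isClosed_iInter fun a ↦ ?_
    have : IsClosed {s : ∀ j, WithConstructibleTopology (F.obj j) |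
        WithTopology.toTopology (constructibleTopology (F.obj j)) (F.map a (s i).ofTopology) = s j} :=
      isClosed_eq ((continuous_patchMap (hFm a)).comp (continuous_apply i)) (continuous_apply j)
    convert this using 1
    ext s
    exact ((WithTopology.ofTopology_injective _).eq_iff.symm).symm
  haveI : CompactSpace S := isCompact_iff_compactSpace.1 hS.isCompact
  choose p hp using fun s : S ↦
    limit_exists_point hc (fun j ↦ (s.1 j).ofTopology) fun {i j} a ↦ s.2 i j a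
  have hsurj : Function.Surjective p := fun x ↦
    ⟨⟨fun j ↦ WithTopology.toTopology _ (c.π.app j x), fun i j a ↦ cone_w_apply a x⟩,
      limit_ext hc fun j ↦ hp _ j⟩
  haveI : T0Space c.pt := by
    refine (t0Space_iff_inseparable _).2 fun x y hxy ↦ limit_ext hc fun j ↦ ?_
    exact (hxy.map (c.π.app j).hom.continuous).eq
  have hclop : ∀ (j : J) (U : Set (F.obj j)), IsOpen U → IsCompact U →
      IsClopen (p ⁻¹' (c.π.app j ⁻¹' U)) := fun j U hU hUc ↦ by
    convert (isClopen_toPatch hU hUc).preimage (f := fun s : S ↦ s.1 j)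
      ((continuous_apply j).comp continuous_subtype_val) using 1
    ext s
    simp [hp]
  have hB := isTopologicalBasis_of_subbasis (limit_eq_generateFrom hc hF)
  have hcl' : ∀ V ∈ (fun f : Set (Set c.pt) ↦ ⋂₀ f) '' {f | f.Finite ∧ f ⊆ {s : Set c.pt |
      ∃ (j : J) (U : Set (F.obj j)), IsOpen U ∧ IsCompact U ∧ s = c.π.app j ⁻¹' U}},
      IsClopen (p ⁻¹' V) := by
    rintro _ ⟨f, ⟨hf, hsub⟩, rfl⟩
    rw [preimage_sInter]
    refine hf.isClopen_biInter fun s hs ↦ ?_
    obtain ⟨j, U, hU, hUc, rfl⟩ := hsub hs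
    exact hclop j U hU hUc
  have hsp := spectralSpace_of_patch hsurj hB hcl'
  refine ⟨hsp, fun j ↦ ⟨(c.π.app j).hom.continuous, fun U hU hUc ↦ ?_⟩⟩
  have h1 := (hclop j U hU hUc).1.isCompact.image (hB.continuous_iff.2 fun V hV ↦ (hcl' V hV).2)
  rwa [image_preimage_eq _ hsurj] at h1

variable [IsCofiltered J]

/-- A cofiltered system of nonempty patch-closed subsets has a compatible point. -/
theorem nonempty_limit_of_isClosed_toPatch (hF : ∀ j, SpectralSpace (F.obj j))
    (hFm : ∀ {i j : J} (a : i ⟶ j), IsSpectralMap (F.map a : F.obj i → F.obj j))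
    (hc : IsLimit c) (Z : ∀ j, Set (F.obj j)) (hne : ∀ j, (Z j).Nonempty)
    (hcl : ∀ j, IsClosed (toPatch (Z j)))
    (hmaps : ∀ {i j : J} (a : i ⟶ j), MapsTo (F.map a) (Z i) (Z j)) :
    ∃ x : c.pt, ∀ j, c.π.app j x ∈ Z j := by
  haveI : ∀ j, SpectralSpace (F.obj j) := hF
  let F' : J ⥤ TopCat.{u} :=
    { obj := fun j ↦ TopCat.of (toPatch (Z j))
      map := fun {i j} a ↦ TopCat.ofHom
        ⟨fun z ↦ ⟨WithTopology.toTopology _ (F.map a z.1.ofTopology), hmaps a z.2⟩,
          ((continuous_patchMap (hFm a)).comp continuous_subtype_val).subtype_mk _⟩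
      map_id := fun j ↦ by ext z; simp
      map_comp := fun a b ↦ by ext z; simp }
  haveI : ∀ j, Nonempty (F'.obj j) := fun j ↦
    let ⟨z, hz⟩ := hne j; ⟨⟨WithTopology.toTopology _ z, hz⟩⟩
  haveI : ∀ j, CompactSpace (F'.obj j) := fun j ↦
    isCompact_iff_compactSpace.1 (hcl j).isCompact
  haveI : ∀ j, T2Space (F'.obj j) := fun j ↦
    inferInstanceAs (T2Space (toPatch (Z j)))
  obtain ⟨s⟩ := TopCat.nonempty_limitCone_of_compact_t2_cofiltered_system F'
  obtain ⟨x, hx⟩ := limit_exists_point hc (fun j ↦ (s.1 j).1.ofTopology)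
    (fun {i j} a ↦ congrArg (fun z : toPatch (Z j) ↦ z.1.ofTopology) (s.2 a))
  exact ⟨x, fun j ↦ hx j ▸ (s.1 j).2⟩

/-- A patch-closed set disappearing in the limit disappears at some stage. -/
theorem exists_stage_preimage_empty (hF : ∀ j, SpectralSpace (F.obj j))
    (hFm : ∀ {i j : J} (a : i ⟶ j), IsSpectralMap (F.map a : F.obj i → F.obj j))
    (hc : IsLimit c) {i : J} (D : Set (F.obj i)) (hD : IsClosed (toPatch D))
    (h : c.π.app i ⁻¹' D = ∅) : ∃ (j : J) (a : j ⟶ i), F.map a ⁻¹' D = ∅ := by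
  haveI : ∀ j, SpectralSpace (F.obj j) := hF
  by_contra hne
  push Not at hne
  let Z : ∀ k, Set (F.obj k) := fun k ↦ ⋂ a : k ⟶ i, F.map a ⁻¹' D
  have hZne : ∀ k, (Z k).Nonempty := by
    intro k
    classical
    have hfip : ∀ t : Finset (k ⟶ i), (univ ∩ ⋂ a ∈ t, toPatch (F.map a ⁻¹' D)).Nonempty := by
      intro t
      obtain ⟨S, T, hT⟩ := IsCofiltered.inf_exists {i, k}
        (t.image fun a ↦ (⟨k, i, by simp, by simp, a⟩ :
          Σ' (X Y : J) (_ : X ∈ ({i, k} : Finset J)) (_ : Y ∈ ({i, k} : Finset J)), X ⟶ Y))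
      obtain ⟨y, hy⟩ := hne S (T (by simp : i ∈ ({i, k} : Finset J)))
      refine ⟨WithTopology.toTopology _ (F.map (T (by simp : k ∈ ({i, k} : Finset J))) y),
        trivial, mem_iInter₂.2 fun a ha ↦ ?_⟩
      change F.map a (F.map (T (by simp : k ∈ ({i, k} : Finset J))) y) ∈ D
      rw [← ConcreteCategory.comp_apply, ← F.map_comp,
        hT (by simp) (by simp) (Finset.mem_image.2 ⟨a, ha, rfl⟩)]
      exact hy
    obtain ⟨z, -, hz⟩ := isCompact_univ.inter_iInter_nonempty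
      (fun a : k ⟶ i ↦ toPatch (F.map a ⁻¹' D))
      (fun a ↦ isClosed_toPatch_preimage (hFm a) hD) hfip
    exact ⟨z.ofTopology, mem_iInter.2 fun a ↦ mem_iInter.1 hz a⟩
  obtain ⟨x, hx⟩ := nonempty_limit_of_isClosed_toPatch hF hFm hc Z hZne
    (fun k ↦ by
      simp only [Z, toPatch, preimage_iInter]
      exact isClosed_iInter fun a ↦ isClosed_toPatch_preimage (hFm a) hD)
    (fun {k l} b z hz ↦ mem_iInter.2 fun a ↦ by
      have := mem_iInter.1 hz (b ≫ a)
      rwa [mem_preimage, F.map_comp, ConcreteCategory.comp_apply] at this)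
  have := mem_iInter.1 (hx i) (𝟙 i)
  rw [mem_preimage, F.map_id, ConcreteCategory.id_apply] at this
  exact (Set.ext_iff.1 h x).1 this

/-- Compact opens of the limit come from a stage. -/
theorem exists_stage_compactOpen (hF : ∀ j, SpectralSpace (F.obj j))
    (hFm : ∀ {i j : J} (a : i ⟶ j), IsSpectralMap (F.map a : F.obj i → F.obj j))
    (hc : IsLimit c) {U : Set c.pt} (hU : IsOpen U) (hUc : IsCompact U) :
    ∃ (i : J) (Ui : Set (F.obj i)), IsOpen Ui ∧ IsCompact Ui ∧ c.π.app i ⁻¹' Ui = U := by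
  haveI : ∀ j, SpectralSpace (F.obj j) := hF
  haveI : Nonempty J := IsCofiltered.nonempty
  set P : Set (Set c.pt) := {V | ∃ (i : J) (Ui : Set (F.obj i)), IsOpen Ui ∧ IsCompact Ui ∧
    c.π.app i ⁻¹' Ui = V} with hP
  have hpull : ∀ {i k : J} (a : k ⟶ i) (W : Set (F.obj i)), IsOpen W → IsCompact W →
      IsOpen (F.map a ⁻¹' W) ∧ IsCompact (F.map a ⁻¹' W) ∧
        c.π.app k ⁻¹' (F.map a ⁻¹' W) = c.π.app i ⁻¹' W := fun a W hW hWc ↦
    ⟨hW.preimage (F.map a).hom.continuous, hWc.preimage_of_isOpen (hFm a) hW, by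
      ext x; simp only [mem_preimage, cone_w_apply]⟩
  have hPun : ∀ A ∈ P, ∀ B ∈ P, A ∪ B ∈ P := by
    rintro _ ⟨i, A, hA, hAc, rfl⟩ _ ⟨j, B, hB, hBc, rfl⟩
    obtain ⟨k, a, b, -⟩ := IsCofilteredOrEmpty.cone_objs i j
    obtain ⟨h1, h2, h3⟩ := hpull a A hA hAc
    obtain ⟨h4, h5, h6⟩ := hpull b B hB hBc
    exact ⟨k, _, h1.union h4, h2.union h5, by rw [preimage_union, h3, h6]⟩
  have hPin : ∀ A ∈ P, ∀ B ∈ P, A ∩ B ∈ P := by
    rintro _ ⟨i, A, hA, hAc, rfl⟩ _ ⟨j, B, hB, hBc, rfl⟩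
    obtain ⟨k, a, b, -⟩ := IsCofilteredOrEmpty.cone_objs i j
    obtain ⟨h1, h2, h3⟩ := hpull a A hA hAc
    obtain ⟨h4, h5, h6⟩ := hpull b B hB hBc
    exact ⟨k, _, h1.inter h4, QuasiSeparatedSpace.inter_isCompact _ _ h1 h2 h4 h5,
      by rw [preimage_inter, h3, h6]⟩
  have hPbasis : IsTopologicalBasis P := by
    refine isTopologicalBasis_of_isOpen_of_nhds ?_ fun x V hxV hV ↦ ?_
    · rintro _ ⟨i, W, hW, -, rfl⟩; exact hW.preimage (c.π.app i).hom.continuous
    obtain ⟨_, ⟨f, ⟨hf, hsub⟩, rfl⟩, hxf, hfV⟩ :=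
      (isTopologicalBasis_of_subbasis (limit_eq_generateFrom hc hF)).exists_subset_of_mem_open
        hxV hV
    refine ⟨⋂₀ f, ?_, hxf, hfV⟩
    clear hxf hfV
    induction f, hf using Set.Finite.induction_on with
    | empty =>
      exact ⟨Classical.arbitrary J, univ, isOpen_univ, isCompact_univ, by simp⟩
    | @insert s f _ _ ih =>
      rw [sInter_insert]
      obtain ⟨j, W, hW, hWc, rfl⟩ := hsub (mem_insert _ _)
      exact hPin _ ⟨j, W, hW, hWc, rfl⟩ _ (ih fun _ h ↦ hsub (mem_insert_of_mem _ h))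
  obtain ⟨S, hS, hSU⟩ := hPbasis.open_eq_sUnion hU
  obtain ⟨S', hS'S, hS'f, hcov⟩ := hUc.elim_finite_subcover_image (b := S) (c := fun s ↦ s)
    (fun s hs ↦ hPbasis.isOpen (hS hs)) (by rw [hSU, sUnion_eq_biUnion])
  have hUeq : U = ⋃₀ S' := by
    refine subset_antisymm (by rwa [sUnion_eq_biUnion]) ?_
    rw [hSU]; exact sUnion_subset_sUnion hS'S
  rw [hUeq]
  change ⋃₀ S' ∈ P
  clear hcov hUeq
  induction S', hS'f using Set.Finite.induction_on with
  | empty => exact ⟨Classical.arbitrary J, ∅, isOpen_empty, isCompact_empty, by simp⟩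
  | @insert s f _ _ ih =>
    rw [sUnion_insert]
    exact hPun _ (hS (hS'S (mem_insert _ _))) _ (ih ((subset_insert _ _).trans hS'S))

end Groth.Agent.PtSet
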