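import Groth.Agent.Lib.PtSet.Constr

/-!
Constructible sets in subspaces; stratifications by finite families of open sets.
-/

open Set Topology TopologicalSpace

namespace Groth.Agent.PtSet

variable {X : Type*} [TopologicalSpace X]

/-- Inclusions of retrocompact subsets of a prespectral space pull back retrocompact opens to
retrocompact subsets. -/
lemma isRetrocompact_preimage_inclusion [PrespectralSpace X] {P E : Set X} (hPE : P ⊆ E)
    (hP : IsRetrocompact P) (hE : IsRetrocompact E) {U : Set E} (hU : IsOpen U)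
    (hUr : IsRetrocompact U) : IsRetrocompact (Set.inclusion hPE ⁻¹' U) := by
  intro K hK hKo
  obtain ⟨V, hV, rfl⟩ := isOpen_induced_iff.1 hKo
  obtain ⟨W, hWc, hWo, hKW, hWV⟩ := PrespectralSpace.exists_isCompact_and_isOpen_between
    (hK.image continuous_subtype_val) hV (by simp)
  have hK' : (Subtype.val ⁻¹' V : Set P) = Subtype.val ⁻¹' W :=
    subset_antisymm (fun a ha ↦ hKW ⟨a, ha, rfl⟩) (preimage_mono hWV)
  have hEW : IsCompact (Subtype.val ⁻¹' W : Set E) := by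
    rw [IsEmbedding.subtypeVal.isCompact_iff, Subtype.image_preimage_coe]
    exact hE hWc hWo
  obtain ⟨V', hV', rfl⟩ := isOpen_induced_iff.1 hU
  have h1 : IsCompact (E ∩ (V' ∩ W)) := by
    have := (hUr hEW (hWo.preimage continuous_subtype_val)).image continuous_subtype_val
    rwa [← preimage_inter, Subtype.image_preimage_coe] at this
  obtain ⟨W', hW'c, hW'o, hsub, hW'⟩ :=
    PrespectralSpace.exists_isCompact_and_isOpen_between h1 (hV'.inter hWo) inter_subset_right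
  rw [IsEmbedding.subtypeVal.isCompact_iff, hK']
  have e : Subtype.val '' (Set.inclusion hPE ⁻¹' (Subtype.val ⁻¹' V') ∩ Subtype.val ⁻¹' W) =
      P ∩ W' := by
    ext a
    constructor
    · rintro ⟨b, ⟨hb1, hb2⟩, rfl⟩
      exact ⟨b.2, hsub ⟨hPE b.2, hb1, hb2⟩⟩
    · rintro ⟨haP, ha⟩
      exact ⟨⟨a, haP⟩, hW' ha, rfl⟩
  rw [e]
  exact hP hW'c hW'o

lemma isConstructible_preimage_inclusion [PrespectralSpace X] {P E : Set X} (hPE : P ⊆ E)
    (hP : IsRetrocompact P) (hE : IsRetrocompact E) {F : Set E} (hF : IsConstructible F) :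
    IsConstructible (Set.inclusion hPE ⁻¹' F) :=
  hF.preimage (continuous_inclusion hPE)
    fun _ ho hr ↦ isRetrocompact_preimage_inclusion hPE hP hE ho hr

lemma isConstructible_preimage_val [PrespectralSpace X] {T : Set X} (hT : IsRetrocompact T)
    {E : Set X} (hE : IsConstructible E) : IsConstructible (Subtype.val ⁻¹' E : Set T) := by
  refine hE.preimage continuous_subtype_val fun U hU hUr K hK hKo ↦ ?_
  obtain ⟨V, hV, rfl⟩ := isOpen_induced_iff.1 hKo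
  obtain ⟨W, hWc, hWo, hKW, hWV⟩ := PrespectralSpace.exists_isCompact_and_isOpen_between
    (hK.image continuous_subtype_val) hV (by simp)
  have hK' : (Subtype.val ⁻¹' V : Set T) = Subtype.val ⁻¹' W :=
    subset_antisymm (fun a ha ↦ hKW ⟨a, ha, rfl⟩) (preimage_mono hWV)
  rw [hK', ← preimage_inter, IsEmbedding.subtypeVal.isCompact_iff, Subtype.image_preimage_coe]
  exact hT (hUr hWc hWo) (hU.inter hWo)

lemma isConstructible_image_val_sdiff {U V : Set X} (hU : IsOpen U) (hUr : IsRetrocompact U)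
    (hV : IsOpen V) (hVr : IsRetrocompact V) {F : Set ↑(U \ V)} (hF : IsConstructible F) :
    IsConstructible (Subtype.val '' F) := by
  let i : ↑(U \ V) → U := Set.inclusion sdiff_subset
  have hr : range i = Subtype.val ⁻¹' Vᶜ := by
    ext a
    exact ⟨fun ⟨b, hb⟩ ↦ hb ▸ b.2.2, fun ha ↦ ⟨⟨a.1, a.2, ha⟩, rfl⟩⟩
  have hi : IsClosedEmbedding i :=
    ⟨IsEmbedding.inclusion _, hr ▸ hV.isClosed_compl.preimage continuous_subtype_val⟩
  have h1 : IsConstructible (i '' F) := by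
    refine hF.image_of_isClosedEmbedding hi ?_
    rw [hr, ← preimage_compl, compl_compl]
    exact hVr.preimage_of_isOpenEmbedding hU.isOpenEmbedding_subtypeVal
  have h2 := h1.image_of_isOpenEmbedding hU.isOpenEmbedding_subtypeVal (by simpa using hUr)
  rwa [image_image] at h2

/-- A constructible set as a finite union of differences of open retrocompact sets. -/
lemma exists_finite_sdiff {s : Set X} (hs : IsConstructible s) :
    ∃ S : Set (Set X × Set X), S.Finite ∧ (∀ p ∈ S, (IsOpen p.1 ∧ IsRetrocompact p.1) ∧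
      (IsOpen p.2 ∧ IsRetrocompact p.2)) ∧ s = ⋃ p ∈ S, p.1 \ p.2 := by
  induction s, hs using BooleanSubalgebra.closure_sdiff_sup_induction with
  | isSublattice =>
    exact ⟨fun s hs t ht ↦ ⟨hs.1.union ht.1, hs.2.union ht.2⟩,
      fun s hs t ht ↦ ⟨hs.1.inter ht.1, hs.2.inter_isOpen ht.2 ht.1⟩⟩
  | bot_mem => exact ⟨isOpen_empty, .empty⟩
  | top_mem => exact ⟨isOpen_univ, .univ⟩
  | sdiff U hU V hV =>
    refine ⟨{(U, V)}, finite_singleton _, ?_, by simp⟩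
    rintro p rfl
    exact ⟨hU, hV⟩
  | sup s _ t _ hs ht =>
    obtain ⟨S, hS, hS', rfl⟩ := hs
    obtain ⟨T, hT, hT', rfl⟩ := ht
    exact ⟨S ∪ T, hS.union hT, fun a ha ↦ ha.elim (hS' a) (hT' a), (biUnion_union _ _ _).symm⟩

lemma isConstructible_image_val [PrespectralSpace X] {E : Set X} (hE : IsConstructible E)
    {F : Set E} (hF : IsConstructible F) : IsConstructible (Subtype.val '' F) := by
  obtain ⟨S, hS, hS', hES⟩ := exists_finite_sdiff hE
  have hsub : ∀ p ∈ S, p.1 \ p.2 ⊆ E := fun p hp ↦ hES ▸ subset_biUnion_of_mem (u := fun p : Set X × Set X ↦ p.1 \ p.2) hp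
  have key : Subtype.val '' F = ⋃ p ∈ S, (Subtype.val '' F) ∩ (p.1 \ p.2) := by
    rw [← inter_iUnion₂, ← hES, inter_eq_left.2 (Subtype.coe_image_subset _ _)]
  rw [key]
  refine .biUnion hS fun p hp ↦ ?_
  obtain ⟨⟨h1, h1r⟩, h2, h2r⟩ := hS' p hp
  have hP : IsRetrocompact (p.1 \ p.2) :=
    isRetrocompact_constructible ((h1r.isConstructible h1).sdiff (h2r.isConstructible h2))
  have := isConstructible_image_val_sdiff h1 h1r h2 h2r
    (isConstructible_preimage_inclusion (hsub p hp) hP (isRetrocompact_constructible hE) hF)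
  convert this using 1
  ext a
  constructor
  · rintro ⟨⟨b, hb, rfl⟩, ha⟩
    exact ⟨⟨b.1, ha⟩, hb, rfl⟩
  · rintro ⟨b, hb, rfl⟩
    exact ⟨⟨_, hb, rfl⟩, b.2⟩

/-- The stratification by a finite family of open sets. -/
lemma closure_atom_subset {ι : Type*} (U : ι → Set X) (hU : ∀ i, IsOpen (U i)) (A : Set ι) :
    closure {x | ∀ i, x ∈ U i ↔ i ∈ A} ⊆ ⋃ B ∈ Iic A, {x | ∀ i, x ∈ U i ↔ i ∈ B} := by
  intro x hx
  refine mem_iUnion₂.2 ⟨{i | x ∈ U i}, fun i hi ↦ ?_, fun i ↦ Iff.rfl⟩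
  by_contra hiA
  obtain ⟨y, hy, hy'⟩ := mem_closure_iff.1 hx (U i) (hU i) hi
  exact hiA ((hy' i).1 hy)

lemma isLocallyClosed_atom {ι : Type*} [Finite ι] (U : ι → Set X) (hU : ∀ i, IsOpen (U i))
    (A : Set ι) : IsLocallyClosed {x | ∀ i, x ∈ U i ↔ i ∈ A} := by
  refine ⟨⋂ i ∈ A, U i, ⋂ i ∈ Aᶜ, (U i)ᶜ, A.toFinite.isOpen_biInter fun i _ ↦ hU i,
    isClosed_biInter fun i _ ↦ (hU i).isClosed_compl, ?_⟩
  ext x
  simp only [mem_ofPred_eq, mem_inter_iff, mem_iInter, mem_compl_iff]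
  exact ⟨fun h ↦ ⟨fun i hi ↦ (h i).2 hi, fun i hi hx ↦ hi ((h i).1 hx)⟩,
    fun ⟨h, h'⟩ i ↦ ⟨fun hx ↦ by_contra fun hi ↦ h' i hi hx, h i⟩⟩

lemma isConstructible_atom {ι : Type*} [Finite ι] (U : ι → Set X) (hU : ∀ i, IsOpen (U i))
    (hUr : ∀ i, IsRetrocompact (U i)) (A : Set ι) :
    IsConstructible {x | ∀ i, x ∈ U i ↔ i ∈ A} := by
  classical
  have : {x | ∀ i, x ∈ U i ↔ i ∈ A} = ⋂ i, if i ∈ A then U i else (U i)ᶜ := by
    ext x
    simp only [mem_ofPred_eq, mem_iInter]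
    refine forall_congr' fun i ↦ ?_
    split_ifs with h <;> simp [h]
  rw [this]
  refine .iInter fun i ↦ ?_
  split_ifs
  · exact (hUr i).isConstructible (hU i)
  · exact ((hUr i).isConstructible (hU i)).compl

/-- Stratification refining sets which are saturated for a finite family of opens. -/
theorem exists_stratification {κ : Type*} {S : Set (Set X)} (hS : S.Finite)
    (hSo : ∀ U ∈ S, IsOpen U) (T : κ → Set X)
    (hT : ∀ k x y, (∀ U ∈ S, (x ∈ U ↔ y ∈ U)) → x ∈ T k → y ∈ T k) :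
    ∃ (I : Type) (_ : Fintype I) (_ : PartialOrder I) (R : I → Set X),
      (∀ i, IsLocallyClosed (R i)) ∧
      ((∀ U ∈ S, IsRetrocompact U) → ∀ i, IsConstructible (R i)) ∧ (⋃ i, R i = univ) ∧
      (∀ i j, i ≠ j → Disjoint (R i) (R j)) ∧
      (∀ j, closure (R j) ⊆ ⋃ i ∈ Iic j, R i) ∧
      (∀ i k, (R i ∩ T k).Nonempty → R i ⊆ T k) := by
  classical
  obtain ⟨n, U, -, rfl⟩ := hS.fin_param
  have hUo : ∀ i, IsOpen (U i) := fun i ↦ hSo _ ⟨i, rfl⟩
  refine ⟨Set (Fin n), Fintype.ofFinite _, inferInstance, fun A ↦ {x | ∀ i, x ∈ U i ↔ i ∈ A},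
    isLocallyClosed_atom U hUo,
    fun hr ↦ isConstructible_atom U hUo fun i ↦ hr _ ⟨i, rfl⟩,
    eq_univ_of_forall fun x ↦ mem_iUnion.2 ⟨{i | x ∈ U i}, fun i ↦ Iff.rfl⟩, ?_,
    closure_atom_subset U hUo, ?_⟩
  · intro A B hAB
    refine disjoint_left.2 fun x hx hx' ↦ hAB ?_
    ext i
    exact (hx i).symm.trans (hx' i)
  · rintro A k ⟨x, hx, hxk⟩ y hy
    exact hT k x y (by rintro _ ⟨i, rfl⟩; exact (hx i).trans (hy i).symm) hxk

/-- Good stratifications of closed subsets of Noetherian spaces. -/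
theorem exists_good_stratification [NoetherianSpace X] :
    ∀ Y : Set X, IsClosed Y → ∀ L : Set (Set X), L.Finite → (∀ l ∈ L, IsLocallyClosed l) →
    ∃ 𝒮 : Set (Set X), 𝒮.Finite ∧ (∀ s ∈ 𝒮, IsLocallyClosed s) ∧ ⋃₀ 𝒮 = Y ∧
      𝒮.PairwiseDisjoint id ∧
      (∀ s ∈ 𝒮, ∀ t ∈ 𝒮, (s ∩ closure t).Nonempty → s ⊆ closure t) ∧
      (∀ s ∈ 𝒮, ∀ l ∈ L, (s ∩ l).Nonempty → s ⊆ l) := by
  refine closed_induction fun Y hY ih L hL hLlc ↦ ?_
  rcases Y.eq_empty_or_nonempty with rfl | hne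
  · exact ⟨∅, finite_empty, by simp, by simp, by simp, by simp, by simp⟩
  -- an irreducible relatively open piece of `Y`
  haveI : NoetherianSpace Y := inferInstance
  haveI : Nonempty Y := hne.to_subtype
  obtain ⟨Z', hZ'⟩ : (irreducibleComponents Y).Nonempty :=
    ⟨irreducibleComponent (Classical.arbitrary Y), irreducibleComponent_mem_irreducibleComponents _⟩
  obtain ⟨O, hOo, hOne, hOZ⟩ :=
    NoetherianSpace.exists_isOpen_nonempty_subset_irreducibleComponent Z' hZ'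
  obtain ⟨W, hW, rfl⟩ := isOpen_induced_iff.1 hOo
  let Z : Set X := Subtype.val '' Z'
  have hZi : IsIrreducible Z := hZ'.1.image _ continuous_subtype_val.continuousOn
  have hZc : IsClosed Z := (hY.isClosedEmbedding_subtypeVal.isClosed_iff_image_isClosed).1
    (isClosed_of_mem_irreducibleComponents _ hZ')
  have hZY : Z ⊆ Y := Subtype.coe_image_subset _ _
  have hWY : W ∩ Y ⊆ Z := fun a ha ↦ ⟨⟨a, ha.2⟩, hOZ ha.1, rfl⟩
  have hWne : (W ∩ Y).Nonempty := let ⟨a, ha⟩ := hOne; ⟨a, ha, a.2⟩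
  -- shrink `W` so that the piece is contained in or disjoint from each member of `L`
  have : ∀ l ∈ L, ∃ U, IsOpen U ∧ (U ∩ Z).Nonempty ∧ (U ∩ Z ⊆ l ∨ Disjoint (U ∩ Z) l) := by
    intro l hl
    by_cases hd : Z ⊆ closure (l ∩ Z)
    · obtain ⟨U, hU, h1, h2⟩ := exists_isOpen_of_isConstructible
        (isConstructible_of_isLocallyClosed_noetherian (hLlc l hl)) hZi hd
      exact ⟨U, hU, h1, .inl h2⟩
    · obtain ⟨a, ha, ha'⟩ := not_subset.1 hd
      exact ⟨(closure (l ∩ Z))ᶜ, isClosed_closure.isOpen_compl, ⟨a, ha', ha⟩, .inr <|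
        disjoint_left.2 fun b hb hbl ↦ hb.1 (subset_closure ⟨hbl, hb.2⟩)⟩
  choose! U hU hUne hUl using this
  obtain ⟨W₀, hW₀, hW₀ne, hW₀l⟩ : ∃ W₀, IsOpen W₀ ∧ (W₀ ∩ Z).Nonempty ∧ W₀ ⊆ ⋂ l ∈ L, U l := by
    refine ⟨⋂ l ∈ L, U l, hL.isOpen_biInter hU, ?_, subset_rfl⟩
    clear hUl
    induction L, hL using Set.Finite.induction_on with
    | empty => simpa using hZi.nonempty
    | @insert a L' _ hL' ih' =>
      obtain ⟨x, hx⟩ := ih' (fun l hl ↦ hLlc l (mem_insert_of_mem _ hl))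
        (fun l hl ↦ hU l (mem_insert_of_mem _ hl)) (fun l hl ↦ hUne l (mem_insert_of_mem _ hl))
      have := hZi.2 (U a) (⋂ l ∈ L', U l) (hU a (mem_insert _ _))
        (hL'.isOpen_biInter fun l hl ↦ hU l (mem_insert_of_mem _ hl))
        (by rw [inter_comm]; exact hUne a (mem_insert _ _)) ⟨x, hx.2, hx.1⟩
      obtain ⟨y, hyZ, hya, hyL⟩ := this
      exact ⟨y, by simp only [biInter_insert]; exact ⟨hya, hyL⟩, hyZ⟩
  let S₀ : Set X := (W ∩ W₀) ∩ Y
  have hS₀Z : S₀ ⊆ Z := fun a ha ↦ hWY ⟨ha.1.1, ha.2⟩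
  have hS₀ne : S₀.Nonempty := by
    obtain ⟨a, ha⟩ := hW₀ne
    obtain ⟨b, hb⟩ := hWne
    obtain ⟨c, hc, hcW, hcW₀⟩ := hZi.2 W W₀ hW hW₀ ⟨b, hWY hb, hb.1⟩ ⟨a, ha.2, ha.1⟩
    exact ⟨c, ⟨hcW, hcW₀⟩, hZY hc⟩
  have hS₀l : ∀ l ∈ L, (S₀ ∩ l).Nonempty → S₀ ⊆ l := by
    rintro l hl ⟨a, ha, hal⟩ b hb
    have hm : ∀ c ∈ S₀, c ∈ U l ∩ Z := fun c hc ↦
      ⟨mem_iInter₂.1 (hW₀l hc.1.2) l hl, hS₀Z hc⟩
    exact (hUl l hl).resolve_right (fun h ↦ disjoint_left.1 h (hm a ha) hal) (hm b hb)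
  have hclS₀ : closure S₀ = Z := subset_antisymm (closure_minimal hS₀Z hZc) <|
    (subset_closure_inter_of_isPreirreducible_of_isOpen hZi.isPreirreducible (hW.inter hW₀)
      (by obtain ⟨a, ha⟩ := hS₀ne; exact ⟨a, hS₀Z ha, ha.1⟩)).trans
      (closure_mono fun a ha ↦ ⟨ha.2, hZY ha.1⟩)
  let Y' := Y \ (W ∩ W₀)
  have hY'c : IsClosed Y' := hY.sdiff (hW.inter hW₀)
  obtain ⟨𝒮, hf, hlc, hun, hdisj, hgood, hl⟩ := ih Y' hY'c sdiff_subset
    (fun e ↦ by obtain ⟨a, ha⟩ := hS₀ne; exact (e.symm ▸ ha.2 : a ∈ Y').2 ha.1)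
    (insert Z L) (hL.insert Z) (forall_mem_insert.2 ⟨hZc.isLocallyClosed, hLlc⟩)
  have hsY' : ∀ s ∈ 𝒮, s ⊆ Y' := fun s hs ↦ hun ▸ subset_sUnion_of_mem hs
  have hdisj₀ : ∀ s ∈ 𝒮, Disjoint S₀ s := fun s hs ↦
    disjoint_left.2 fun a ha has ↦ (hsY' s hs has).2 ha.1
  refine ⟨insert S₀ 𝒮, hf.insert _, forall_mem_insert.2 ⟨?_, hlc⟩, ?_, ?_, ?_, ?_⟩
  · exact ⟨W ∩ W₀, Y, hW.inter hW₀, hY, rfl⟩
  · rw [sUnion_insert, hun]; ext a; simp only [S₀, Y', mem_union, mem_inter_iff, mem_sdiff]; tauto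
  · exact hdisj.insert fun s hs _ ↦ hdisj₀ s hs
  · rintro s (rfl | hs) t (rfl | ht) hne'
    · exact subset_closure
    · obtain ⟨a, ha, hat⟩ := hne'
      exact absurd ha.1 (closure_minimal (hsY' t ht) hY'c hat).2
    · rw [hclS₀] at hne' ⊢
      exact hl s hs Z (mem_insert _ _) hne'
    · exact hgood s hs t ht hne'
  · rintro s (rfl | hs) l hl'
    · exact hS₀l l hl'
    · exact hl s hs l (mem_insert_of_mem _ hl')

end Groth.Agent.PtSet
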